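import Mathlib

/-!
A dimension count: a nondegenerate commutator pairing on a finite abelian group, together with a
fixed-point-free symmetry of prime order acting without fixed vectors, bounds the order of the group.
-/

set_option autoImplicit false
set_option linter.unusedSectionVars false

namespace Cfsg.Agent.CoprimeFixed

open Module

variable {K : Type*} [Field K]

section Fix

variable {A E : Type*} [CommGroup A] [Fintype A] [AddCommGroup E] [Module K E] [FiniteDimensional K E]
  (c : A →* (A →* Kˣ)) (Φ : A →* Module.End K E)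

/-- The projection on a weight space, times the order of the group. -/
def wproj (u : A) : E →ₗ[K] E := ∑ a : A, (((c a u)⁻¹ : Kˣ) : K) • Φ a

/-- The common fixed space. -/
def fixSpace : Submodule K E := ⨅ a : A, LinearMap.ker (Φ a - 1)

theorem mem_fixSpace {f : E} : f ∈ fixSpace Φ ↔ ∀ a, Φ a f = f := by
  simp [fixSpace, Submodule.mem_iInf, sub_eq_zero]

theorem apply_wproj (b u : A) (f : E) : Φ b (wproj c Φ u f) = ((c b u : Kˣ) : K) • wproj c Φ u f := by
  simp only [wproj, LinearMap.sum_apply, LinearMap.smul_apply, map_sum, map_smul, Finset.smul_sum,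
    smul_smul]
  refine Fintype.sum_equiv (Equiv.mulLeft b) _ _ fun a => ?_
  simp only [Equiv.coe_mulLeft, map_mul, MonoidHom.mul_apply, Module.End.mul_apply, mul_inv, Units.val_mul]
  rw [← mul_assoc, Units.mul_inv, one_mul]

theorem sum_char {φ : A →* Kˣ} (h : φ ≠ 1) : ∑ a : A, ((φ a : Kˣ) : K) = 0 := by
  have h' : (Units.coeHom K).comp φ ≠ 1 := fun he => h (MonoidHom.ext fun a => Units.ext
    (by simpa using DFunLike.congr_fun he a))
  exact sum_hom_units_eq_zero ((Units.coeHom K).comp φ) h'

theorem fixed_count (hnd : ∀ a, (∀ u, c a u = 1) → a = 1) (hnd' : ∀ u, (∀ a, c a u = 1) → u = 1)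
    (hn : (Fintype.card A : K) ≠ 0) (L : A → E ≃ₗ[K] E)
    (hL : ∀ a u f, Φ a (L u f) = ((c a u : Kˣ) : K) • L u (Φ a f))
    (σ : A ≃* A) (hσ : ∀ a u, c (σ a) (σ u) = c a u) {r : ℕ} (hr : r.Prime) (hσr : ∀ a, (σ^[r]) a = a)
    (hfix : ∀ a, σ a = a → a = 1) (θ : E →ₗ[K] E) (hθ : ∀ a f, θ (Φ a f) = Φ (σ a) (θ f)) :
    Fintype.card A * finrank K (fixSpace Φ) = finrank K E ∧ ∃ k : ℕ, k * r = Fintype.card A + (r - 1) ∧
      finrank K (LinearMap.ker (θ - 1) : Submodule K E) ≤ k * finrank K (fixSpace Φ) := by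
  classical
  set n := Fintype.card A
  have hsum : ∀ f, ∑ u, wproj c Φ u f = (n : K) • f := by
    intro f
    simp only [wproj, LinearMap.sum_apply, LinearMap.smul_apply]
    rw [Finset.sum_comm, Finset.sum_eq_single (1 : A)]
    · simp [n, Nat.cast_smul_eq_nsmul]
    · intro a _ ha
      rw [← Finset.sum_smul]
      have hne : (c a)⁻¹ ≠ 1 := fun h => ha (hnd a fun u => by
        have := DFunLike.congr_fun h u
        simpa using this)
      have := sum_char (φ := (c a)⁻¹) hne
      simp only [MonoidHom.inv_apply] at this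
      rw [this, zero_smul]
    · simp
  have hmem : ∀ u f, (L u).symm (wproj c Φ u f) ∈ fixSpace Φ := by
    intro u f
    rw [mem_fixSpace]
    intro a
    have h1 := hL a u ((L u).symm (wproj c Φ u f))
    rw [LinearEquiv.apply_symm_apply, apply_wproj] at h1
    apply (L u).injective
    rw [LinearEquiv.apply_symm_apply]
    exact (smul_right_injective E (Units.ne_zero (c a u)) h1).symm
  let Ψ : E →ₗ[K] (A → fixSpace Φ) :=
    LinearMap.pi fun u => ((L u).symm.toLinearMap.comp (wproj c Φ u)).codRestrict _ (hmem u)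
  have hproj : ∀ u v (g : E), g ∈ fixSpace Φ → wproj c Φ v (L u g) = if u = v then (n : K) • L u g else 0 := by
    intro u v g hg
    have : ∀ a, (((c a v)⁻¹ : Kˣ) : K) • Φ a (L u g) = ((c a (v⁻¹ * u) : Kˣ) : K) • L u g := by
      intro a
      rw [hL, mem_fixSpace Φ |>.mp hg a, smul_smul, map_mul, map_inv, ← Units.val_mul]
    simp only [wproj, LinearMap.sum_apply, LinearMap.smul_apply, this, ← Finset.sum_smul]
    by_cases h : u = v
    · subst h
      simp [n]
    · rw [if_neg h]
      have hne : (MonoidHom.eval (v⁻¹ * u)).comp c ≠ 1 := fun he => h (by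
        have h1 := hnd' (v⁻¹ * u) fun a => by simpa using DFunLike.congr_fun he a
        exact (inv_mul_eq_one.mp h1).symm)
      have := sum_char hne
      simp only [MonoidHom.coe_comp, Function.comp_apply, MonoidHom.eval_apply_apply] at this
      rw [this, zero_smul]
  have hbij : Function.Bijective Ψ := by
    constructor
    · rw [← LinearMap.ker_eq_bot, LinearMap.ker_eq_bot']
      intro f hf
      have h1 : ∀ u, wproj c Φ u f = 0 := fun u =>
        (LinearEquiv.map_eq_zero_iff (L u).symm).mp (congrArg Subtype.val (congrFun hf u))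
      have h2 := hsum f
      simp only [h1, Finset.sum_const_zero] at h2
      exact (smul_eq_zero.mp h2.symm).resolve_left hn
    · intro g
      refine ⟨∑ u, (n : K)⁻¹ • L u (g u : E), funext fun v => Subtype.ext ?_⟩
      show (L v).symm (wproj c Φ v (∑ u, (n : K)⁻¹ • L u (g u : E))) = g v
      rw [map_sum, Finset.sum_eq_single v]
      · rw [map_smul, hproj v v _ (g v).2, if_pos rfl, smul_smul, inv_mul_cancel₀ hn, one_smul,
          LinearEquiv.symm_apply_apply]
      · intro u _ hu
        rw [map_smul, hproj u v _ (g u).2, if_neg hu, smul_zero]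
      · simp
  refine ⟨?_, ?_⟩
  · rw [(LinearEquiv.ofBijective Ψ hbij).finrank_eq, Module.finrank_pi_fintype, Finset.sum_const,
      Finset.card_univ, smul_eq_mul]
  -- orbits of the symmetry
  set π : Equiv.Perm A := σ.toEquiv with hπ
  have hpow : ∀ (k : ℕ) (a : A), (π ^ k) a = σ^[k] a := by
    intro k
    induction k with
    | zero => intro a; rfl
    | succ k ih => intro a; rw [pow_succ', Equiv.Perm.mul_apply, ih, Function.iterate_succ_apply']; rfl
  haveI := Fintype.ofFinite (Subgroup.zpowers π)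
  haveI := Fintype.ofFinite (Quotient (MulAction.orbitRel (Subgroup.zpowers π) A))
  set G := Subgroup.zpowers π
  have hordn : π ^ r = 1 := Equiv.ext fun a => by rw [hpow, hσr]; rfl
  have hk : ∃ k : ℕ, k * r = n + (r - 1) ∧ Fintype.card (Quotient (MulAction.orbitRel G A)) ≤ k := by
    by_cases hπ1 : π = 1
    · have h1 : ∀ a : A, a = 1 := fun a => hfix a (DFunLike.congr_fun hπ1 a)
      haveI : Subsingleton A := ⟨fun a b => (h1 a).trans (h1 b).symm⟩
      have hn1 : n = 1 := Fintype.card_eq_one_iff.mpr ⟨1, h1⟩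
      refine ⟨1, by have := hr.two_le; omega, ?_⟩
      exact Fintype.card_le_one_iff_subsingleton.mpr inferInstance
    · haveI := Fact.mk hr
      have hord : orderOf π = r := orderOf_eq_prime hordn hπ1
      have hcardG : Fintype.card G = r := by rw [← Nat.card_eq_fintype_card, Nat.card_zpowers, hord]
      haveI : ∀ g : G, Fintype (MulAction.fixedBy A g) := fun g => Fintype.ofFinite _
      have hb := MulAction.sum_card_fixedBy_eq_card_orbits_mul_card_group G A
      rw [← Finset.add_sum_erase Finset.univ _ (Finset.mem_univ (1 : G))] at hb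
      have hone : Fintype.card (MulAction.fixedBy A (1 : G)) = n :=
        Fintype.card_congr (Equiv.subtypeUnivEquiv fun a => one_smul G a)
      have hrest : ∀ g ∈ Finset.univ.erase (1 : G), Fintype.card (MulAction.fixedBy A g) = 1 := by
        intro g hg
        obtain ⟨i, hi, hig⟩ : ∃ i, i < r ∧ π ^ i = (g : Equiv.Perm A) := by
          have := (isOfFinOrder_of_finite π).mem_zpowers_iff_mem_range_orderOf.mp g.2
          obtain ⟨i, hi, hig⟩ := Finset.mem_image.mp this
          exact ⟨i, by rw [← hord]; exact Finset.mem_range.mp hi, hig⟩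
        have hi0 : i ≠ 0 := fun h0 => Finset.ne_of_mem_erase hg (Subtype.ext (by rw [← hig, h0, pow_zero]; rfl))
        refine Fintype.card_eq_one_iff.mpr ⟨⟨1, ?_⟩, ?_⟩
        · show (g : Equiv.Perm A) 1 = 1
          rw [← hig, hpow]
          exact Function.iterate_fixed (map_one σ) i
        · rintro ⟨a, ha⟩
          refine Subtype.ext (hfix a ?_)
          have ha' : (π ^ i) a = a := by rw [hig]; exact ha
          have hco : i.Coprime r := Nat.coprime_comm.mp (hr.coprime_iff_not_dvd.mpr fun hd =>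
            absurd (Nat.le_of_dvd (Nat.pos_of_ne_zero hi0) hd) (by omega))
          obtain ⟨k, -, hk⟩ := Nat.exists_mul_mod_eq_one_of_coprime hco hr.one_lt
          have h2 : (π ^ i) ^ k = π := by
            rw [← pow_mul, ← Nat.mod_add_div (i * k) r, hk, pow_add, pow_one, pow_mul, hordn, one_pow, mul_one]
          have h3 : ((π ^ i) ^ k) a = a :=
            (MulAction.stabilizer (Equiv.Perm A) a).pow_mem (show π ^ i ∈ MulAction.stabilizer _ a from ha') k
          rw [h2] at h3
          exact h3
      rw [hone, Finset.sum_congr rfl hrest, Finset.sum_const, Finset.card_erase_of_mem (Finset.mem_univ _),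
        Finset.card_univ, hcardG, smul_eq_mul, mul_one] at hb
      exact ⟨_, hb.symm, le_rfl⟩
  obtain ⟨k, hk, hkle⟩ := hk
  refine ⟨k, hk, ?_⟩
  -- a fixed vector is determined by its weights at orbit representatives
  have hcomm : ∀ u f, θ (wproj c Φ u f) = wproj c Φ (σ u) (θ f) := by
    intro u f
    simp only [wproj, LinearMap.sum_apply, LinearMap.smul_apply, map_sum, map_smul, hθ]
    refine Fintype.sum_equiv σ.toEquiv _ _ fun a => ?_
    show _ = (((c (σ a) (σ u))⁻¹ : Kˣ) : K) • Φ (σ a) (θ f)
    rw [hσ]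
  let Ω := Quotient (MulAction.orbitRel G A)
  let F : (LinearMap.ker (θ - 1) : Submodule K E) →ₗ[K] (Ω → fixSpace Φ) :=
    LinearMap.pi fun o => ((LinearMap.proj o.out).comp Ψ).comp (Submodule.subtype _)
  have hFinj : Function.Injective F := by
    rw [← LinearMap.ker_eq_bot, LinearMap.ker_eq_bot']
    rintro ⟨f, hf⟩ hF
    have hθf : θ f = f := by simpa [sub_eq_zero] using hf
    refine Subtype.ext (hbij.injective ?_)
    rw [Submodule.coe_zero, map_zero]
    funext u
    have h0 : ∀ v, wproj c Φ v f = 0 → ∀ i : ℕ, wproj c Φ (σ^[i] v) f = 0 := by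
      intro v hv i
      induction i with
      | zero => exact hv
      | succ i ih =>
        rw [Function.iterate_succ_apply']
        nth_rw 1 [← hθf]
        rw [← hcomm, ih, map_zero]
    have hout : wproj c Φ (Quotient.mk (MulAction.orbitRel G A) u).out f = 0 := by
      have h1 := congrArg Subtype.val (congrFun hF (Quotient.mk (MulAction.orbitRel G A) u))
      exact (LinearEquiv.map_eq_zero_iff (L _).symm).mp h1
    obtain ⟨g, hg⟩ := (Quotient.mk_out u : (MulAction.orbitRel G A) _ u)
    obtain ⟨i, hig⟩ : ∃ i, π ^ i = (g : Equiv.Perm A)⁻¹ :=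
      (Submonoid.mem_powers_iff _ _).mp
        ((isOfFinOrder_of_finite π).mem_powers_iff_mem_zpowers.mpr (G.inv_mem g.2))
    have hu : u = σ^[i] (Quotient.mk (MulAction.orbitRel G A) u).out := by
      rw [← hpow, hig, ← hg]
      exact ((g : Equiv.Perm A).symm_apply_apply u).symm
    refine Subtype.ext ?_
    show (L u).symm (wproj c Φ u f) = 0
    rw [hu, h0 _ hout i, map_zero]
  calc finrank K (LinearMap.ker (θ - 1) : Submodule K E) ≤ finrank K (Ω → fixSpace Φ) :=
        LinearMap.finrank_le_finrank_of_injective hFinj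
    _ = Fintype.card Ω * finrank K (fixSpace Φ) := by
      rw [Module.finrank_pi_fintype, Finset.sum_const, Finset.card_univ, smul_eq_mul]
    _ ≤ k * finrank K (fixSpace Φ) := Nat.mul_le_mul_right _ hkle

end Fix

section Eigen

variable {W : Type*} [AddCommGroup W] [Module K W] [FiniteDimensional K W]

/-- An endomorphism of prime order without fixed vectors has a large centraliser. -/
theorem sq_finrank_le (X : Module.End K W) {r : ℕ} (hr : r.Prime) {ζ : K} (hζ : IsPrimitiveRoot ζ r)
    (hr0 : (r : K) ≠ 0) (hX : X ^ r = 1) (hN : ∑ i ∈ Finset.range r, X ^ i = 0)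
    (θ : Module.End K W →ₗ[K] Module.End K W) (hθ : ∀ f, f * X = X * f → θ f = f) :
    finrank K W ^ 2 ≤ (r - 1) * finrank K (LinearMap.ker (θ - 1) : Submodule K (Module.End K W)) := by
  classical
  have hζ0 : ζ ≠ 0 := hζ.ne_zero hr.ne_zero
  have hζr : ζ ^ r = 1 := hζ.pow_eq_one
  have hinvr : ∀ j : ℕ, (ζ ^ j)⁻¹ ^ r = 1 := fun j => by
    rw [inv_pow, ← pow_mul, mul_comm, pow_mul, hζr, one_pow, inv_one]
  let P : ℕ → Module.End K W := fun j => ∑ i ∈ Finset.range r, ((ζ ^ j)⁻¹ ^ i) • X ^ i
  have hXP : ∀ j, X * P j = (ζ ^ j) • P j := by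
    intro j
    simp only [P, Finset.mul_sum, Finset.smul_sum, mul_smul_comm, smul_smul, ← pow_succ']
    have e : ∀ i : ℕ, ζ ^ j * (ζ ^ j)⁻¹ ^ (i + 1) = (ζ ^ j)⁻¹ ^ i := fun i => by
      rw [pow_succ', ← mul_assoc, mul_inv_cancel₀ (pow_ne_zero j hζ0), one_mul]
    have h1 := Finset.sum_range_succ' (fun i => (ζ ^ j * (ζ ^ j)⁻¹ ^ i) • X ^ i) r
    have h2 := Finset.sum_range_succ (fun i => (ζ ^ j * (ζ ^ j)⁻¹ ^ i) • X ^ i) r
    rw [h2, hinvr, hX, pow_zero, pow_zero] at h1
    simp only [e] at h1
    exact (add_right_cancel h1).symm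
  have hPX : ∀ j, P j * X = X * P j := by
    intro j
    simp only [P, Finset.sum_mul, Finset.mul_sum, smul_mul_assoc, mul_smul_comm, ← pow_succ, ← pow_succ']
  have hsum : ∑ j ∈ Finset.range r, P j = (r : K) • 1 := by
    simp only [P]
    rw [Finset.sum_comm, Finset.sum_eq_single 0]
    · simp [Nat.cast_smul_eq_nsmul, nsmul_one]
    · intro i hi hi0
      rw [← Finset.sum_smul]
      have hpr : IsPrimitiveRoot ((ζ ^ i)⁻¹) r := (hζ.pow_of_coprime i (Nat.coprime_comm.mp
        (hr.coprime_iff_not_dvd.mpr fun hd => absurd (Nat.le_of_dvd (Nat.pos_of_ne_zero hi0) hd)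
          (by have := Finset.mem_range.mp hi; omega)))).inv
      have e : ∀ j : ℕ, (ζ ^ j)⁻¹ ^ i = (ζ ^ i)⁻¹ ^ j := fun j => by
        rw [inv_pow, inv_pow, ← pow_mul, ← pow_mul, mul_comm]
      simp only [e]
      rw [hpr.geom_sum_eq_zero hr.one_lt, zero_smul]
    · intro h; exact absurd (Finset.mem_range.mpr hr.pos) h
  have hP0 : P 0 = 0 := by simp [P, hN]
  let Wj : Fin (r - 1) → Submodule K W := fun j => LinearMap.ker (X - (ζ ^ ((j : ℕ) + 1)) • 1)
  have hPmem : ∀ (j : Fin (r - 1)) (w : W), P ((j : ℕ) + 1) w ∈ Wj j := by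
    intro j w
    have h := LinearMap.congr_fun (hXP ((j : ℕ) + 1)) w
    simpa [Wj, sub_eq_zero] using h
  have hPeig : ∀ (j : ℕ) (k : Fin (r - 1)) (w : W), w ∈ Wj k → j < r →
      P j w = if j = (k : ℕ) + 1 then (r : K) • w else 0 := by
    intro j k w hw hj
    have hw' : X w = (ζ ^ ((k : ℕ) + 1)) • w := by simpa [Wj, sub_eq_zero] using hw
    have hpow : ∀ i : ℕ, (X ^ i) w = (ζ ^ ((k : ℕ) + 1)) ^ i • w := by
      intro i
      induction i with
      | zero => simp
      | succ i ih => rw [pow_succ', Module.End.mul_apply, ih, map_smul, hw', smul_smul, ← pow_succ]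
    simp only [P, LinearMap.sum_apply, LinearMap.smul_apply, hpow, smul_smul, ← Finset.sum_smul, ← mul_pow]
    by_cases hjk : j = (k : ℕ) + 1
    · subst hjk
      simp [inv_mul_cancel₀ (pow_ne_zero _ hζ0)]
    · rw [if_neg hjk]
      set μ := (ζ ^ j)⁻¹ * ζ ^ ((k : ℕ) + 1) with hμ
      have hμr : μ ^ r = 1 := by
        rw [hμ, mul_pow, hinvr, one_mul, ← pow_mul, mul_comm, pow_mul, hζr, one_pow]
      have hμ1 : μ ≠ 1 := fun h => hjk (hζ.pow_inj hj (by omega) (inv_mul_eq_one₀ (pow_ne_zero j hζ0) |>.mp h))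
      have : ∑ i ∈ Finset.range r, μ ^ i = 0 := by
        rw [geom_sum_eq hμ1, hμr, sub_self, zero_div]
      rw [this, zero_smul]
  -- the space embeds in the product of the eigenspaces
  let Γ : W →ₗ[K] (∀ j, Wj j) := LinearMap.pi fun j => (P ((j : ℕ) + 1)).codRestrict _ (hPmem j)
  have hΓ : Function.Injective Γ := by
    rw [← LinearMap.ker_eq_bot, LinearMap.ker_eq_bot']
    intro w hw
    have h1 : ∀ j ∈ Finset.range r, P j w = 0 := by
      intro j hj
      rcases Nat.eq_zero_or_pos j with rfl | hj0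
      · rw [hP0]; rfl
      · have h := congrArg Subtype.val (congrFun hw ⟨j - 1, by have := Finset.mem_range.mp hj; omega⟩)
        simpa [Γ, Nat.sub_add_cancel hj0] using h
    have h2 := LinearMap.congr_fun hsum w
    rw [LinearMap.sum_apply, Finset.sum_eq_zero h1] at h2
    exact (smul_eq_zero.mp (show (r : K) • w = 0 by simpa using h2.symm)).resolve_left hr0
  -- endomorphisms of the eigenspaces give fixed points
  let S : (∀ j, Module.End K (Wj j)) →ₗ[K] Module.End K W :=
    { toFun := fun g => ∑ j, ((Wj j).subtype.comp (g j)).comp ((P ((j : ℕ) + 1)).codRestrict _ (hPmem j))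
      map_add' := fun g g' => by
        rw [← Finset.sum_add_distrib]
        exact Finset.sum_congr rfl fun j _ => by simp [LinearMap.add_comp, LinearMap.comp_add]
      map_smul' := fun a g => by
        rw [Finset.smul_sum]
        exact Finset.sum_congr rfl fun j _ => by simp [LinearMap.smul_comp, LinearMap.comp_smul] }
  have hSmem : ∀ g, S g ∈ (LinearMap.ker (θ - 1) : Submodule K (Module.End K W)) := by
    intro g
    rw [LinearMap.mem_ker, LinearMap.sub_apply, sub_eq_zero]
    refine hθ _ (LinearMap.ext fun w => ?_)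
    simp only [S, LinearMap.coe_mk, AddHom.coe_mk, Module.End.mul_apply, LinearMap.sum_apply, map_sum]
    refine Finset.sum_congr rfl fun j _ => ?_
    simp only [LinearMap.comp_apply, Submodule.subtype_apply]
    have h1 : ((P ((j : ℕ) + 1)).codRestrict (Wj j) (hPmem j)) (X w) =
        (ζ ^ ((j : ℕ) + 1)) • ((P ((j : ℕ) + 1)).codRestrict (Wj j) (hPmem j)) w := Subtype.ext (by
      show P ((j : ℕ) + 1) (X w) = (ζ ^ ((j : ℕ) + 1)) • P ((j : ℕ) + 1) w
      rw [← Module.End.mul_apply, hPX, hXP]
      rfl)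
    rw [h1, map_smul, Submodule.coe_smul]
    have h2 := (g j (((P ((j : ℕ) + 1)).codRestrict (Wj j) (hPmem j)) w)).2
    have h3 := LinearMap.mem_ker.mp h2
    rw [LinearMap.sub_apply, LinearMap.smul_apply, Module.End.one_apply, sub_eq_zero] at h3
    exact h3.symm
  have hSinj : Function.Injective (S.codRestrict _ hSmem) := by
    rw [← LinearMap.ker_eq_bot, LinearMap.ker_eq_bot']
    intro g hg
    funext k
    refine LinearMap.ext fun w => ?_
    have h := LinearMap.congr_fun (congrArg Subtype.val hg) (w : W)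
    simp only [S, LinearMap.codRestrict_apply, LinearMap.coe_mk, AddHom.coe_mk, LinearMap.sum_apply,
      LinearMap.comp_apply, Submodule.subtype_apply, ZeroMemClass.coe_zero, LinearMap.zero_apply] at h
    rw [Finset.sum_eq_single k] at h
    · have e : ((P ((k : ℕ) + 1)).codRestrict (Wj k) (hPmem k)) (w : W) = (r : K) • w := Subtype.ext (by
        show P ((k : ℕ) + 1) (w : W) = _
        rw [hPeig _ k w w.2 (by omega), if_pos rfl]; rfl)
      rw [e, map_smul] at h
      exact Subtype.ext ((smul_eq_zero.mp h).resolve_left hr0)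
    · intro j _ hjk
      have e : ((P ((j : ℕ) + 1)).codRestrict (Wj j) (hPmem j)) (w : W) = 0 := Subtype.ext (by
        show P ((j : ℕ) + 1) (w : W) = 0
        rw [hPeig _ k w w.2 (by omega), if_neg (fun h => hjk (Fin.ext (by omega)))])
      rw [e, map_zero, Submodule.coe_zero]
    · simp
  have hD : finrank K W ≤ ∑ j, finrank K (Wj j) := by
    rw [← Module.finrank_pi_fintype]
    exact LinearMap.finrank_le_finrank_of_injective hΓ
  have hS : ∑ j, finrank K (Wj j) ^ 2 ≤
      finrank K (LinearMap.ker (θ - 1) : Submodule K (Module.End K W)) := by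
    refine le_trans (le_of_eq ?_) (LinearMap.finrank_le_finrank_of_injective hSinj)
    rw [Module.finrank_pi_fintype]
    exact Finset.sum_congr rfl fun j _ => by rw [Module.finrank_linearMap, pow_two]
  calc finrank K W ^ 2 ≤ (∑ j, finrank K (Wj j)) ^ 2 := Nat.pow_le_pow_left hD 2
    _ ≤ (r - 1) * ∑ j, finrank K (Wj j) ^ 2 := by
      have h := sq_sum_le_card_mul_sum_sq (s := (Finset.univ : Finset (Fin (r - 1))))
        (f := fun j => finrank K (Wj j))
      rwa [Finset.card_univ, Fintype.card_fin] at h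
    _ ≤ _ := Nat.mul_le_mul_left _ hS

end Eigen

end Cfsg.Agent.CoprimeFixed
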