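import Mathlib
import Cfsg.Agent.CoprimeFixed.Count

/-!
A group of class two with a fixed-point-free symmetry of prime order acting on a module of coprime
characteristic: if the symmetry has no fixed vector, the orders are those of the exceptional case.
-/

set_option autoImplicit false
set_option linter.unusedSectionVars false

namespace Cfsg.Agent.CoprimeFixed

open Module Subgroup

variable {p : ℕ} [hpF : Fact p.Prime] {H : Type*} [Group H] [Finite H]
  {V : Type*} [AddCommGroup V] [Module (ZMod p) V] [Finite V]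

/-- The coefficient field. -/
abbrev Kp (p : ℕ) [Fact p.Prime] : Type := AlgebraicClosure (ZMod p)

theorem cast_ne_zero_of_pow {q : ℕ} (hq : q.Prime) (hqp : q ≠ p) {n k : ℕ} (h : n ∣ q ^ k) :
    (n : Kp p) ≠ 0 := by
  rw [Ne, CharP.cast_eq_zero_iff (Kp p) p]
  intro hd
  exact hqp ((Nat.prime_dvd_prime_iff_eq hpF.out hq).mp (hpF.out.dvd_of_dvd_pow (hd.trans h))).symm

theorem tmul_one_injective {v : V} (h : (1 : Kp p) ⊗ₜ[ZMod p] v = 0) : v = 0 := by
  obtain ⟨f, hf⟩ := (Algebra.linearMap (ZMod p) (Kp p)).exists_leftInverse_of_injective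
    (LinearMap.ker_eq_bot.mpr (algebraMap (ZMod p) (Kp p)).injective)
  have := congrArg (fun t => TensorProduct.lid (ZMod p) V (LinearMap.rTensor V f t)) h
  have hf1 : f 1 = 1 := by simpa using LinearMap.congr_fun hf 1
  simpa [hf1] using this

theorem baseChange_eq_one {f : Module.End (ZMod p) V}
    (h : Module.End.baseChangeHom (ZMod p) (Kp p) V f = 1) : f = 1 := by
  refine LinearMap.ext fun v => ?_
  have h1 := LinearMap.congr_fun h ((1 : Kp p) ⊗ₜ[ZMod p] v)
  change (1 : Kp p) ⊗ₜ[ZMod p] f v = (1 : Kp p) ⊗ₜ[ZMod p] v at h1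
  have h2 : (1 : Kp p) ⊗ₜ[ZMod p] (f v - v) = 0 := by rw [TensorProduct.tmul_sub, h1, sub_self]
  exact sub_eq_zero.mp (tmul_one_injective h2)

section Abstract

variable {K : Type*} [Field K] [IsAlgClosed K] {W : Type*} [AddCommGroup W] [Module K W] [FiniteDimensional K W]

theorem pow_cast_ne_zero {q : ℕ} (h : (q : K) ≠ 0) (k : ℕ) : ((q ^ k : ℕ) : K) ≠ 0 := by
  rw [Nat.cast_pow]; exact pow_ne_zero k h

/-- A nonzero subspace, invariant under `Q` and `x`, on which `Z` acts by scalars and `ζ` nontrivially. -/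
theorem exists_scalar_space (ρ : H →* Module.End K W) (Q Z : Subgroup H) (x : H) (hZQ : Z ≤ Q)
    (hZc : ∀ z ∈ Z, ∀ a ∈ Q, Commute z a) (hZx : ∀ z ∈ Z, Commute x z) {ζ : H} (hζ : ζ ∈ Z)
    (hζ1 : ρ ζ ≠ 1) {o : ℕ} (hk' : ζ ^ o = 1) (ho : (o : K) ≠ 0) :
    ∃ S : Submodule K (W), S ≠ ⊥ ∧
      (∀ h : H, (h ∈ Q ∨ h = x) → ∀ s ∈ S, ρ h s ∈ S) ∧
      (∀ z ∈ Z, ∃ μ : K, ∀ s ∈ S, ρ z s = μ • s) ∧
      ∀ s ∈ S, ρ ζ s = s → s = 0 := by
  classical
  set ρ' : H →* Module.End K W := ρ with hρ'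
  show ∃ S : Submodule K (W), S ≠ ⊥ ∧
      (∀ h : H, (h ∈ Q ∨ h = x) → ∀ s ∈ S, ρ' h s ∈ S) ∧
      (∀ z ∈ Z, ∃ μ : K, ∀ s ∈ S, ρ' z s = μ • s) ∧ ∀ s ∈ S, ρ' ζ s = s → s = 0
  set N : Module.End K (W) := ∑ i ∈ Finset.range o, ρ' (ζ ^ i) with hN
  have hzN : ρ' ζ * N = N := by
    rw [hN, Finset.mul_sum]
    simp only [← map_mul, ← pow_succ']
    have h1 := Finset.sum_range_succ' (fun i => ρ' (ζ ^ i)) o
    have h2 := Finset.sum_range_succ (fun i => ρ' (ζ ^ i)) o
    rw [h2, hk', pow_zero] at h1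
    refine LinearMap.ext fun v => ?_
    have h3 := LinearMap.congr_fun h1 v
    simpa using h3.symm
  set T : Module.End K (W) := (o : K) • 1 - N with hT
  have hpowN : ∀ i : ℕ, ρ' (ζ ^ i) * N = N := by
    intro i
    induction i with
    | zero => simp
    | succ i ih => rw [pow_succ, map_mul, mul_assoc, hzN, ih]
  have hNT : N * T = 0 := by
    rw [hT, mul_sub, mul_smul_comm, mul_one]
    nth_rw 2 [hN]
    rw [Finset.sum_mul, Finset.sum_congr rfl fun i _ => hpowN i, Finset.sum_const, Finset.card_range,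
      ← Nat.cast_smul_eq_nsmul K, sub_self]
  have hcomm : ∀ h : H, Commute h ζ → ρ' h * T = T * ρ' h := by
    intro h hh
    simp only [hT, hN, mul_sub, sub_mul, mul_smul_comm, smul_mul_assoc, mul_one, one_mul, Finset.mul_sum,
      Finset.sum_mul, ← map_mul, (hh.pow_right _).eq]
  have hS0 : LinearMap.range T ≠ ⊥ := by
    intro h0
    rw [LinearMap.range_eq_bot] at h0
    refine hζ1 ?_
    have hNo : N = (o : K) • 1 := (sub_eq_zero.mp h0).symm
    have := hzN
    rw [hNo, mul_smul_comm, mul_one] at this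
    exact smul_right_injective _ ho this
  have hfree : ∀ s ∈ LinearMap.range T, ρ' ζ s = s → s = 0 := by
    rintro _ ⟨v, rfl⟩ hfix
    have h1 : ∀ i : ℕ, ρ' (ζ ^ i) (T v) = T v := by
      intro i
      induction i with
      | zero => simp
      | succ i ih => rw [pow_succ, map_mul, Module.End.mul_apply, hfix, ih]
    have h2 : N (T v) = (o : K) • T v := by
      rw [hN, LinearMap.sum_apply]
      rw [Finset.sum_congr rfl fun i _ => h1 i, Finset.sum_const, Finset.card_range, ← Nat.cast_smul_eq_nsmul K]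
    have h3 : N (T v) = 0 := LinearMap.congr_fun hNT v
    exact (smul_eq_zero.mp (h2.symm.trans h3)).resolve_left ho
  haveI := Fintype.ofFinite H
  suffices h : ∀ F : Finset H, (∀ z ∈ F, z ∈ Z) → ∃ S : Submodule K (W),
      S ≠ ⊥ ∧ (∀ h : H, (h ∈ Q ∨ h = x) → ∀ s ∈ S, ρ' h s ∈ S) ∧
      (∀ z ∈ F, ∃ μ : K, ∀ s ∈ S, ρ' z s = μ • s) ∧ ∀ s ∈ S, ρ' ζ s = s → s = 0 by
    obtain ⟨S, h1, h2, h3, h4⟩ := h (Finset.univ.filter (· ∈ Z)) (fun z hz => (Finset.mem_filter.mp hz).2)
    exact ⟨S, h1, h2, fun z hz => h3 z (Finset.mem_filter.mpr ⟨Finset.mem_univ z, hz⟩), h4⟩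
  intro F
  induction F using Finset.induction_on with
  | empty =>
    intro _
    refine ⟨LinearMap.range T, hS0, fun h hh => ?_, by simp, hfree⟩
    rintro _ ⟨v, rfl⟩
    refine ⟨ρ' h v, ?_⟩
    have hc : Commute h ζ := by
      rcases hh with hh | rfl
      · exact (hZc ζ hζ h hh).symm
      · exact hZx ζ hζ
    exact (LinearMap.congr_fun (hcomm h hc) v).symm
  | @insert z F hzF ih =>
    intro hF
    obtain ⟨S, hS, hinv, hscal, hfr⟩ := ih (fun w hw => hF w (Finset.mem_insert_of_mem hw))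
    have hz : z ∈ Z := hF z (Finset.mem_insert_self z F)
    haveI : Nontrivial S := Submodule.nontrivial_iff_ne_bot.mpr hS
    set g : Module.End K S := (ρ' z).restrict (fun s hs => hinv z (Or.inl (hZQ hz)) s hs) with hg
    obtain ⟨μ, hμ⟩ := Module.End.exists_eigenvalue (V := ↥S) g
    obtain ⟨w, hw⟩ := hμ.exists_hasEigenvector
    refine ⟨S ⊓ LinearMap.ker (ρ' z - μ • 1), fun h0 => hw.2 ?_, fun h hh s hs => ?_, fun w' hw' => ?_,
      fun s hs => hfr s hs.1⟩
    · refine Subtype.ext ?_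
      have h1 : (w : W) ∈ S ⊓ LinearMap.ker (ρ' z - μ • 1) := by
        refine ⟨w.2, ?_⟩
        have h2 := congrArg Subtype.val (Module.End.mem_eigenspace_iff.mp hw.1)
        rw [SetLike.mem_coe, LinearMap.mem_ker, LinearMap.sub_apply, LinearMap.smul_apply, Module.End.one_apply,
          sub_eq_zero]
        exact h2
      rw [h0, Submodule.mem_bot] at h1
      exact h1
    · refine ⟨hinv h hh s hs.1, ?_⟩
      have hc : Commute z h := by
        rcases hh with hh | rfl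
        · exact hZc z hz h hh
        · exact (hZx z hz).symm
      have h2 := LinearMap.mem_ker.mp hs.2
      rw [LinearMap.sub_apply, LinearMap.smul_apply, Module.End.one_apply, sub_eq_zero] at h2
      rw [SetLike.mem_coe, LinearMap.mem_ker, LinearMap.sub_apply, LinearMap.smul_apply, Module.End.one_apply,
        sub_eq_zero, ← Module.End.mul_apply, ← map_mul, hc.eq, map_mul, Module.End.mul_apply, h2, map_smul]
    · rcases Finset.mem_insert.mp hw' with rfl | hw'
      · refine ⟨μ, fun s hs => ?_⟩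
        have h2 := LinearMap.mem_ker.mp hs.2
        rwa [LinearMap.sub_apply, LinearMap.smul_apply, Module.End.one_apply, sub_eq_zero] at h2
      · obtain ⟨ν, hν⟩ := hscal w' hw'
        exact ⟨ν, fun s hs => hν s hs.1⟩

/-- A finite abelian group with a nondegenerate alternating pairing has square order. -/
theorem exists_card_eq_sq {A : Type*} [CommGroup A] [Finite A] [HasEnoughRootsOfUnity K (Monoid.exponent A)]
    (c : A →* (A →* Kˣ)) (halt : ∀ a, c a a = 1) (hnd : ∀ a, (∀ u, c a u = 1) → a = 1) :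
    ∃ L : Subgroup A, Nat.card A = Nat.card L * Nat.card L := by
  have hsymm : ∀ a b, c b a = (c a b)⁻¹ := fun a b => by
    have h := halt (a * b)
    simp only [map_mul, MonoidHom.mul_apply, halt, one_mul, mul_one] at h
    exact eq_inv_of_mul_eq_one_left h
  obtain ⟨L, hL, hmax⟩ := Set.Finite.exists_maximal
    (Set.toFinite {L : Subgroup A | ∀ a ∈ L, ∀ b ∈ L, c a b = 1})
    ⟨⊥, fun a ha b _ => by rw [mem_bot.mp ha, map_one]; rfl⟩
  refine ⟨L, le_antisymm ?_ ?_⟩
  · -- the orthogonal of `L` is `L`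
    let f : A →* (L →* Kˣ) := MonoidHom.mk' (fun a => (c a).comp L.subtype)
      (fun a b => by ext l; simp)
    have hker : f.ker ≤ L := by
      intro a ha
      have ha' : ∀ l ∈ L, c a l = 1 := fun l hl => DFunLike.congr_fun (MonoidHom.mem_ker.mp ha) ⟨l, hl⟩
      have h1 : L ⊔ zpowers a ∈ {L : Subgroup A | ∀ a ∈ L, ∀ b ∈ L, c a b = 1} := by
        intro y hy z hz
        obtain ⟨l, hl, g, hg, rfl⟩ := Subgroup.mem_sup.mp hy
        obtain ⟨l', hl', g', hg', rfl⟩ := Subgroup.mem_sup.mp hz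
        obtain ⟨i, rfl⟩ := mem_zpowers_iff.mp hg
        obtain ⟨j, rfl⟩ := mem_zpowers_iff.mp hg'
        have hla : ∀ l ∈ L, c l a = 1 := fun l hl => by rw [hsymm, ha' l hl, inv_one]
        simp [map_mul, hL l hl l' hl', ha' l' hl', hla l hl, halt]
      exact hmax h1 le_sup_left (mem_sup_right (mem_zpowers a))
    haveI : HasEnoughRootsOfUnity K (Monoid.exponent L) :=
      HasEnoughRootsOfUnity.of_dvd K (Monoid.exponent_dvd_of_monoidHom L.subtype L.subtype_injective)
    haveI hfin : Finite (L →* Kˣ) := by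
      refine Nat.finite_of_card_ne_zero ?_
      rw [CommGroup.card_monoidHom_of_hasEnoughRootsOfUnity]
      exact Nat.card_pos.ne'
    have h2 := Nat.card_le_card_of_injective _ (QuotientGroup.kerLift_injective f)
    rw [CommGroup.card_monoidHom_of_hasEnoughRootsOfUnity, ← index_eq_card] at h2
    rw [← card_mul_index f.ker]
    exact Nat.mul_le_mul (Subgroup.card_le_of_le hker) h2
  · -- `L` pairs faithfully with the quotient
    let g : L →* ((A ⧸ L) →* Kˣ) := MonoidHom.mk'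
      (fun l => QuotientGroup.lift L (c l) (fun b hb => hL l l.2 b hb))
      (fun a b => MonoidHom.ext fun y => by
        induction y using QuotientGroup.induction_on with
        | H y =>
          show c ((a * b : L) : A) y = c a y * c b y
          simp)
    have hg : Function.Injective g := by
      rw [← MonoidHom.ker_eq_bot_iff, eq_bot_iff]
      intro l hl
      refine mem_bot.mpr (Subtype.ext (hnd _ fun u => ?_))
      exact DFunLike.congr_fun (MonoidHom.mem_ker.mp hl) (u : A ⧸ L)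
    haveI : HasEnoughRootsOfUnity K (Monoid.exponent (A ⧸ L)) :=
      HasEnoughRootsOfUnity.of_dvd K (MonoidHom.exponent_dvd (f := QuotientGroup.mk' L) (QuotientGroup.mk'_surjective L))
    haveI hfin : Finite ((A ⧸ L) →* Kˣ) := by
      refine Nat.finite_of_card_ne_zero ?_
      rw [CommGroup.card_monoidHom_of_hasEnoughRootsOfUnity]
      exact Nat.card_pos.ne'
    have h2 := Nat.card_le_card_of_injective g hg
    rw [CommGroup.card_monoidHom_of_hasEnoughRootsOfUnity, ← index_eq_card] at h2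
    calc Nat.card L * Nat.card L ≤ Nat.card L * L.index := Nat.mul_le_mul_left _ h2
      _ = Nat.card A := card_mul_index L

theorem arith {q r n e D f k : ℕ} (hq : q.Prime) (hr : r.Prime) (he : 0 < e) (hD : n * e = D ^ 2)
    (hf : D ^ 2 ≤ (r - 1) * f) (hfk : f ≤ k * e) (hk : k * r = n + (r - 1)) (hn1 : 1 < n)
    {j l : ℕ} (hnj : n = q ^ j) (hl : n = l * l) : ∃ m, 0 < m ∧ q = 2 ∧ r = 2 ^ m + 1 ∧ n = 2 ^ (2 * m) := by
  obtain ⟨s, rfl⟩ : ∃ s, r = s + 1 := ⟨r - 1, by have := hr.pos; omega⟩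
  simp only [Nat.add_sub_cancel] at hf hk
  have h1 : n ≤ s * k := by
    refine Nat.le_of_mul_le_mul_right ?_ he
    calc n * e ≤ s * f := hD ▸ hf
      _ ≤ s * (k * e) := Nat.mul_le_mul_left _ hfk
      _ = s * k * e := (Nat.mul_assoc _ _ _).symm
  have h2 : n ≤ s * s := by
    have := Nat.mul_le_mul_right (s + 1) h1
    nlinarith
  obtain ⟨m, hm, hlm⟩ := (Nat.dvd_prime_pow hq).mp (hnj ▸ hl ▸ Dvd.intro l rfl : l ∣ q ^ j)
  subst hlm
  have hls : q ^ m ≤ s := Nat.mul_self_le_mul_self_iff.mp (hl ▸ h2)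
  have hm0 : 0 < m := Nat.pos_of_ne_zero fun h => by subst h; simp at hl; omega
  have hlq : q ≤ q ^ m := Nat.le_self_pow hm0.ne' q
  have hq2 := hq.two_le
  have hdvd : (s + 1) ∣ (q ^ m + 1) * (q ^ m - 1) := by
    have h3 : (s + 1) ∣ n + s := hk ▸ Dvd.intro_left k rfl
    have h4 : n + s = (n - 1) + (s + 1) := by omega
    rw [h4] at h3
    have h5 := (Nat.dvd_add_left dvd_rfl).mp h3
    have h6 : n - 1 = (q ^ m + 1) * (q ^ m - 1) := by
      rw [hl]; simpa using Nat.mul_self_sub_mul_self_eq (q ^ m) 1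
    rwa [h6] at h5
  rcases hr.dvd_mul.mp hdvd with h | h
  · have hle := Nat.le_of_dvd (by omega) h
    have hs : s = q ^ m := by omega
    have hq' : q = 2 := by
      by_contra hne
      have hodd : Odd (q ^ m) := (hq.odd_of_ne_two hne).pow
      rw [hs] at hr
      have := hr.even_iff.mp hodd.add_one
      omega
    subst hq'
    exact ⟨m, hm0, rfl, by omega, by rw [hl, ← pow_add, two_mul]⟩
  · exact absurd (Nat.le_of_dvd (by omega) h) (by omega)

/-- The bound for a group of class two. -/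
theorem heis_bound_aux (ρ : H →* Module.End K W) (Q Z : Subgroup H) (x : H) {q r : ℕ} (hq : q.Prime)
    (hr : r.Prime) (hq0 : (q : K) ≠ 0) (hr0 : (r : K) ≠ 0) (hQ : IsPGroup q Q) (hxr : x ^ r = 1)
    (hN : ∑ i ∈ Finset.range r, ρ (x ^ i) = 0) (hxQ : ∀ a ∈ Q, x * a * x⁻¹ ∈ Q) (hZQ : Z ≤ Q) (hne : ¬ Q ≤ Z)
    (hcomm : ∀ a ∈ Q, ∀ b ∈ Q, a * b * a⁻¹ * b⁻¹ ∈ Z) (hZc : ∀ z ∈ Z, ∀ a ∈ Q, Commute z a)
    (hZx : ∀ z ∈ Z, Commute x z) (hfix : ∀ a ∈ Q, x * a * x⁻¹ * a⁻¹ ∈ Z → a ∈ Z)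
    {ζ : H} (hζ : ζ ∈ Z) (hζ1 : ρ ζ ≠ 1)
    (hrad : ∀ K1 : Subgroup H, K1 ≤ Z → ζ ∉ K1 → ∀ a ∈ Q, (∀ b ∈ Q, a * b * a⁻¹ * b⁻¹ ∈ K1) → a ∈ Z) :
    ∃ m, 0 < m ∧ q = 2 ∧ r = 2 ^ m + 1 ∧ Z.relIndex Q = 2 ^ (2 * m) := by
  classical
  obtain ⟨k₀, hk₀⟩ := hQ ⟨ζ, hZQ hζ⟩
  obtain ⟨S, hS, hinv, hscal, hfree⟩ := exists_scalar_space ρ Q Z x hZQ hZc hZx hζ hζ1
    (congrArg Subtype.val hk₀ : ζ ^ q ^ k₀ = 1) (pow_cast_ne_zero hq0 _)
  set ρ' : H →* Module.End K W := ρ with hρ'
  haveI : Nontrivial S := Submodule.nontrivial_iff_ne_bot.mpr hS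
  let R : Subgroup H :=
    { carrier := {h | (∀ s ∈ S, ρ' h s ∈ S) ∧ ∀ s ∈ S, ρ' h⁻¹ s ∈ S}
      one_mem' := ⟨fun s hs => by simpa using hs, fun s hs => by simpa using hs⟩
      mul_mem' := fun {a b} ha hb => ⟨fun s hs => by
        rw [map_mul]; exact ha.1 _ (hb.1 s hs), fun s hs => by
        rw [mul_inv_rev, map_mul]; exact hb.2 _ (ha.2 s hs)⟩
      inv_mem' := fun {a} ha => ⟨ha.2, by rw [inv_inv]; exact ha.1⟩ }
  let res : R →* Module.End K S :=
    { toFun := fun h => (ρ' h).restrict h.2.1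
      map_one' := by ext s; simp
      map_mul' := fun a b => by ext s; simp [map_mul] }
  let η := res.toHomUnits
  have hQR : Q ≤ R := fun a ha => ⟨hinv a (Or.inl ha), hinv a⁻¹ (Or.inl (Q.inv_mem ha))⟩
  have hxR : x ∈ R := ⟨hinv x (Or.inr rfl), fun s hs => by
    rw [show x⁻¹ = x ^ (r - 1) from inv_eq_of_mul_eq_one_right
      (by rw [← pow_succ', Nat.sub_add_cancel hr.pos, hxr])]
    have : ∀ i : ℕ, ∀ s ∈ S, ρ' (x ^ i) s ∈ S := by
      intro i
      induction i with
      | zero => intro s hs; simpa using hs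
      | succ i ih => intro s hs; rw [pow_succ, map_mul]; exact ih _ (hinv x (Or.inr rfl) s hs)
    exact this _ s hs⟩
  have η_val : ∀ (h : H) (hh : h ∈ R) (s : S), ((η ⟨h, hh⟩ : Module.End K S) s : W) = ρ' h s :=
    fun h hh s => rfl
  -- the central character
  have hchi : ∀ z : Z, ∃ μ : Kˣ, (η ⟨z, hQR (hZQ z.2)⟩ : Module.End K S) = (μ : K) • 1 := by
    intro z
    obtain ⟨μ, hμ⟩ := hscal z z.2
    have hμ' : (η ⟨z, hQR (hZQ z.2)⟩ : Module.End K S) = μ • 1 :=
      LinearMap.ext fun s => Subtype.ext (hμ s s.2)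
    have hμ0 : μ ≠ 0 := fun h0 => by
      rw [h0, zero_smul] at hμ'
      exact Units.ne_zero _ hμ'
    exact ⟨Units.mk0 μ hμ0, hμ'⟩
  choose χ0 hχ0 using hchi
  have hsinj : ∀ a b : K, a • (1 : Module.End K S) = b • 1 → a = b := fun a b h => by
    obtain ⟨s, hs⟩ := exists_ne (0 : S)
    exact smul_left_injective K hs (by simpa using LinearMap.congr_fun h s)
  let χ : Z →* Kˣ := MonoidHom.mk' χ0 fun a b => Units.ext (hsinj _ _ (by
    rw [← hχ0, Units.val_mul, mul_smul, ← hχ0 b, ← smul_one_mul (χ0 a : K), ← hχ0 a, ← Units.val_mul,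
      ← map_mul]
    rfl))
  have hχζ : χ ⟨ζ, hζ⟩ ≠ 1 := fun h => by
    obtain ⟨s, hs⟩ := exists_ne (0 : S)
    refine hs (Subtype.ext (hfree s s.2 ?_))
    have h1 := hχ0 ⟨ζ, hζ⟩
    rw [show χ0 ⟨ζ, hζ⟩ = 1 from h, Units.val_one, one_smul] at h1
    exact congrArg Subtype.val (LinearMap.congr_fun h1 s)
  -- the pairing
  have hZn : (Z.subgroupOf Q).Normal := ⟨fun z hz g => by
    rw [mem_subgroupOf, Subgroup.coe_mul, Subgroup.coe_mul, Subgroup.coe_inv,
      ← (hZc _ (mem_subgroupOf.mp hz) g g.2).eq, mul_inv_cancel_right]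
    exact mem_subgroupOf.mp hz⟩
  letI : CommGroup (Q ⧸ Z.subgroupOf Q) :=
    { (inferInstance : Group (Q ⧸ Z.subgroupOf Q)) with
      mul_comm := fun a b => by
        induction a using QuotientGroup.induction_on with
        | H a =>
          induction b using QuotientGroup.induction_on with
          | H b =>
            rw [← QuotientGroup.mk_mul, ← QuotientGroup.mk_mul, QuotientGroup.eq, mem_subgroupOf]
            simpa [mul_assoc] using hcomm _ (Q.inv_mem b.2) _ (Q.inv_mem a.2) }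
  let cm : Q → Q → Z := fun a b => ⟨a * b * (a : H)⁻¹ * (b : H)⁻¹, hcomm a a.2 b b.2⟩
  have hcm_left : ∀ a a' b : Q, cm (a * a') b = cm a b * cm a' b := fun a a' b => Subtype.ext (by
    show (a : H) * a' * b * ((a : H) * a')⁻¹ * (b : H)⁻¹ = (cm a b : H) * (cm a' b)
    calc _ = (a : H) * (cm a' b : H) * (a : H)⁻¹ * (cm a b : H) := by simp only [cm]; group
      _ = (cm a' b : H) * (cm a b : H) := by
        rw [← (hZc _ (cm a' b).2 a a.2).eq, mul_inv_cancel_right]
      _ = _ := (hZc _ (cm a' b).2 _ (hZQ (cm a b).2)).eq)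
  have hcm_inv : ∀ a b : Q, cm b a = (cm a b)⁻¹ := fun a b => Subtype.ext (by
    simp only [cm, InvMemClass.coe_inv]; group)
  have hcm_right : ∀ a b b' : Q, cm a (b * b') = cm a b * cm a b' := fun a b b' => by
    rw [hcm_inv (b * b') a, hcm_left, hcm_inv b a, hcm_inv b' a, mul_inv_rev]
    exact Subtype.ext (hZc _ ((cm b' a)⁻¹).2 _ (hZQ ((cm b a)⁻¹).2)).eq
  have hcm_Z : ∀ (a b : Q), (b : H) ∈ Z → cm a b = 1 := fun a b hb => Subtype.ext (by
    show (a : H) * b * (a : H)⁻¹ * (b : H)⁻¹ = 1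
    rw [← (hZc _ hb a a.2).eq, mul_inv_cancel_right, mul_inv_cancel])
  let cc : Q →* (Q →* Kˣ) := MonoidHom.mk'
    (fun a => MonoidHom.mk' (fun b => χ (cm a b)) fun b b' => by rw [hcm_right, map_mul])
    fun a a' => MonoidHom.ext fun b => by simp [hcm_left]
  let c1 : Q →* ((Q ⧸ Z.subgroupOf Q) →* Kˣ) := MonoidHom.mk'
    (fun a => QuotientGroup.lift _ (cc a) fun b hb => by
      show χ (cm a b) = 1
      rw [hcm_Z a b (mem_subgroupOf.mp hb), map_one])
    fun a a' => MonoidHom.ext fun u => by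
      induction u using QuotientGroup.induction_on with
      | H u => simp
  let c : (Q ⧸ Z.subgroupOf Q) →* ((Q ⧸ Z.subgroupOf Q) →* Kˣ) :=
    QuotientGroup.lift _ c1 fun a ha => MonoidHom.ext fun u => by
      induction u using QuotientGroup.induction_on with
      | H u =>
        show χ (cm a u) = 1
        rw [hcm_inv u a, hcm_Z u a (mem_subgroupOf.mp ha), inv_one, map_one]
  have c_mk : ∀ a b : Q, c a b = χ (cm a b) := fun a b => rfl
  have hnd : ∀ a, (∀ u, c a u = 1) → a = 1 := by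
    intro a ha
    induction a using QuotientGroup.induction_on with
    | H a =>
      refine (QuotientGroup.eq_one_iff a).mpr (mem_subgroupOf.mpr (hrad (χ.ker.map Z.subtype) (map_subtype_le _)
        ?_ a a.2 fun b hb => ⟨cm a ⟨b, hb⟩, ha (((⟨b, hb⟩ : Q) : Q ⧸ Z.subgroupOf Q)), rfl⟩))
      rintro ⟨z, hz, hzζ⟩
      exact hχζ ((Subtype.ext hzζ.symm : (⟨ζ, hζ⟩ : Z) = z) ▸ hz)
  have hnd' : ∀ u, (∀ a, c a u = 1) → u = 1 := by
    intro u hu
    refine hnd u fun a => ?_
    induction u using QuotientGroup.induction_on with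
    | H u =>
      induction a using QuotientGroup.induction_on with
      | H a =>
        rw [c_mk, hcm_inv a u, map_inv, ← c_mk, hu, inv_one]
  haveI := Fintype.ofFinite (Q ⧸ Z.subgroupOf Q)
  haveI := Fact.mk hq
  obtain ⟨j, hj⟩ := IsPGroup.iff_card.mp (hQ.to_quotient (Z.subgroupOf Q))
  have hcardA : Fintype.card (Q ⧸ Z.subgroupOf Q) = q ^ j := by rw [← Nat.card_eq_fintype_card, hj]
  have hn0 : (Fintype.card (Q ⧸ Z.subgroupOf Q) : K) ≠ 0 := by
    rw [hcardA]; exact pow_cast_ne_zero hq0 _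
  -- the operators
  let ηQ : Q →* (Module.End K S)ˣ := η.comp (Subgroup.inclusion hQR)
  let Φ0 : Q →* Module.End K (Module.End K S) :=
    { toFun := fun a => (LinearMap.mulLeft K (ηQ a : Module.End K S)).comp
        (LinearMap.mulRight K (((ηQ a)⁻¹ : (Module.End K S)ˣ) : Module.End K S))
      map_one' := LinearMap.ext fun f => by simp
      map_mul' := fun a b => LinearMap.ext fun f => by simp [map_mul, mul_inv_rev, mul_assoc] }
  let Φ : (Q ⧸ Z.subgroupOf Q) →* Module.End K (Module.End K S) :=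
    QuotientGroup.lift _ Φ0 fun a ha => LinearMap.ext fun f => by
      show (ηQ a : Module.End K S) * (f * ((ηQ a)⁻¹ : (Module.End K S)ˣ)) = f
      have h1 : (ηQ a : Module.End K S) = (χ0 ⟨a, mem_subgroupOf.mp ha⟩ : K) • 1 :=
        hχ0 ⟨a, mem_subgroupOf.mp ha⟩
      have h2 : ((ηQ a)⁻¹ : (Module.End K S)ˣ) * (ηQ a : Module.End K S) = 1 := Units.inv_mul _
      have h3 : (ηQ a : Module.End K S) * f = f * (ηQ a : Module.End K S) := by
        rw [h1, smul_one_mul, mul_smul_one]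
      rw [← mul_assoc, h3, mul_assoc, Units.mul_inv, mul_one]
  let L : (Q ⧸ Z.subgroupOf Q) → Module.End K S ≃ₗ[K] Module.End K S := fun u =>
    { LinearMap.mulLeft K (ηQ u.out : Module.End K S) with
      invFun := fun f => ((ηQ u.out)⁻¹ : (Module.End K S)ˣ) * f
      left_inv := fun f => by simp [← mul_assoc]
      right_inv := fun f => by simp [← mul_assoc] }
  have hL : ∀ a u f, Φ a (L u f) = ((c a u : Kˣ) : K) • L u (Φ a f) := by
    intro a u f
    induction a using QuotientGroup.induction_on with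
    | H a =>
      show (ηQ a : Module.End K S) * ((ηQ u.out : Module.End K S) * f * ((ηQ a)⁻¹ : (Module.End K S)ˣ)) =
        ((c (a : Q ⧸ Z.subgroupOf Q) u : Kˣ) : K) •
          ((ηQ u.out : Module.End K S) * ((ηQ a : Module.End K S) * (f * ((ηQ a)⁻¹ : (Module.End K S)ˣ))))
      have h1 : (ηQ a : Module.End K S) * (ηQ u.out : Module.End K S) =
          ((c (a : Q ⧸ Z.subgroupOf Q) u : Kˣ) : K) •
            ((ηQ u.out : Module.End K S) * (ηQ a : Module.End K S)) := by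
        have h2 : a * u.out = ⟨(cm a u.out : H), hZQ (cm a u.out).2⟩ * (u.out * a) := Subtype.ext (by
          show (a : H) * u.out = (cm a u.out : H) * ((u.out : Q) * a)
          simp only [cm]; group)
        have h3 : (ηQ ⟨(cm a u.out : H), hZQ (cm a u.out).2⟩ : Module.End K S) =
            ((c (a : Q ⧸ Z.subgroupOf Q) u : Kˣ) : K) • 1 := by
          conv_rhs => rw [← QuotientGroup.out_eq' u]
          rw [c_mk]
          exact hχ0 (cm a u.out)
        rw [← Units.val_mul, ← map_mul, h2, map_mul, map_mul, Units.val_mul, Units.val_mul, h3, smul_one_mul]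
      simp only [← mul_assoc]
      rw [h1]
      simp only [smul_mul_assoc, mul_assoc]
  -- the symmetry
  obtain ⟨φ, hφ⟩ : ∃ φ : MulAut Q, ∀ a : Q, (φ a : H) = x * a * x⁻¹ := by
    let f : Q →* Q := MonoidHom.mk' (fun a => (⟨x * a * x⁻¹, hxQ a a.2⟩ : Q)) fun a b => Subtype.ext (by simp)
    have hf : Function.Injective f := fun a b h => by
      have := congrArg Subtype.val h
      exact Subtype.ext (by simpa [f] using this)
    exact ⟨MulEquiv.ofBijective f (Finite.injective_iff_bijective.mp hf), fun a => rfl⟩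
  have hmap : (Z.subgroupOf Q).map φ.toMonoidHom = Z.subgroupOf Q := by
    have hφZ : ∀ a : Q, (a : H) ∈ Z → φ a = a := fun a ha => Subtype.ext (by
      rw [hφ, (hZx _ ha).eq, mul_inv_cancel_right])
    ext a
    constructor
    · rintro ⟨b, hb, rfl⟩
      show φ b ∈ _
      rw [hφZ b (mem_subgroupOf.mp hb)]
      exact hb
    · exact fun ha => ⟨a, ha, hφZ a (mem_subgroupOf.mp ha)⟩
  let σ : (Q ⧸ Z.subgroupOf Q) ≃* (Q ⧸ Z.subgroupOf Q) := QuotientGroup.congr _ _ φ hmap
  have σ_mk : ∀ a : Q, σ (a : Q ⧸ Z.subgroupOf Q) = ((φ a : Q) : Q ⧸ Z.subgroupOf Q) := fun a => rfl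
  have hσc : ∀ a u, c (σ a) (σ u) = c a u := by
    intro a u
    induction a using QuotientGroup.induction_on with
    | H a =>
      induction u using QuotientGroup.induction_on with
      | H u =>
        rw [σ_mk, σ_mk, c_mk, c_mk]
        congr 1
        refine Subtype.ext ?_
        show (φ a : H) * φ u * (φ a : H)⁻¹ * (φ u : H)⁻¹ = a * u * (a : H)⁻¹ * (u : H)⁻¹
        rw [hφ, hφ]
        calc _ = x * (a * u * (a : H)⁻¹ * (u : H)⁻¹) * x⁻¹ := by group
          _ = _ := by rw [(hZx _ (hcomm a a.2 u u.2)).eq, mul_inv_cancel_right]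
  have hσr : ∀ a, (σ^[r]) a = a := by
    intro a
    induction a using QuotientGroup.induction_on with
    | H a =>
      have : ∀ i : ℕ, ∃ b : Q, (σ^[i]) (a : Q ⧸ Z.subgroupOf Q) = (b : Q ⧸ Z.subgroupOf Q) ∧
          (b : H) = x ^ i * a * (x ^ i)⁻¹ := by
        intro i
        induction i with
        | zero => exact ⟨a, rfl, by simp⟩
        | succ i ih =>
          obtain ⟨b, hb, hb'⟩ := ih
          refine ⟨φ b, by rw [Function.iterate_succ_apply', hb, σ_mk], ?_⟩
          rw [hφ, hb', pow_succ']; group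
      obtain ⟨b, hb, hb'⟩ := this r
      rw [hb, show b = a from Subtype.ext (by rw [hb', hxr, one_mul, inv_one, mul_one])]
  have hσfix : ∀ a, σ a = a → a = 1 := by
    intro a ha
    induction a using QuotientGroup.induction_on with
    | H a =>
      rw [σ_mk, QuotientGroup.eq, mem_subgroupOf] at ha
      refine (QuotientGroup.eq_one_iff a).mpr (mem_subgroupOf.mpr (hfix a a.2 ?_))
      have h1 : (φ a : H)⁻¹ * a ∈ Z := by simpa using ha
      have h2 := hZc _ h1 _ (Q.inv_mem a.2)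
      have h3 := Z.inv_mem h1
      rw [hφ] at h1 h3 h2
      have h4 : x * a * x⁻¹ * (a : H)⁻¹ = a * ((x * a * x⁻¹)⁻¹ * a)⁻¹ * (a : H)⁻¹ := by group
      rw [h4, ← (hZc _ h3 a a.2).eq, mul_inv_cancel_right]
      exact h3
  set X := η ⟨x, hxR⟩
  let θ : Module.End K (Module.End K S) := (LinearMap.mulLeft K (X : Module.End K S)).comp
    (LinearMap.mulRight K ((X⁻¹ : (Module.End K S)ˣ) : Module.End K S))
  have hθ : ∀ a f, θ (Φ a f) = Φ (σ a) (θ f) := by
    intro a f
    induction a using QuotientGroup.induction_on with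
    | H a =>
      rw [σ_mk]
      show (X : Module.End K S) * ((ηQ a : Module.End K S) * (f * ((ηQ a)⁻¹ : (Module.End K S)ˣ)) *
          (X⁻¹ : (Module.End K S)ˣ)) =
        (ηQ (φ a) : Module.End K S) * ((X : Module.End K S) * (f * (X⁻¹ : (Module.End K S)ˣ)) *
          ((ηQ (φ a))⁻¹ : (Module.End K S)ˣ))
      have h1 : ηQ (φ a) = X * ηQ a * X⁻¹ := by
        show η (Subgroup.inclusion hQR (φ a)) = η ⟨x, hxR⟩ * η (Subgroup.inclusion hQR a) * (η ⟨x, hxR⟩)⁻¹
        rw [← map_inv, ← map_mul, ← map_mul]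
        congr 1
        exact Subtype.ext (hφ a)
      rw [h1]
      simp only [mul_inv_rev, inv_inv, Units.val_mul, mul_assoc, Units.inv_mul_cancel_left]
  obtain ⟨hD, k, hk, hkf⟩ := fixed_count c Φ hnd hnd' hn0 L hL σ hσc hr hσr hσfix θ hθ
  -- the lower bound
  haveI : NeZero (r : K) := ⟨hr0⟩
  obtain ⟨z, hz⟩ := HasEnoughRootsOfUnity.exists_primitiveRoot K r
  have hXr : (X : Module.End K S) ^ r = 1 := by
    rw [← Units.val_pow_eq_pow_val, ← map_pow, show (⟨x, hxR⟩ : R) ^ r = 1 from Subtype.ext hxr, map_one,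
      Units.val_one]
  have hXN : ∑ i ∈ Finset.range r, (X : Module.End K S) ^ i = 0 := by
    refine LinearMap.ext fun s => Subtype.ext ?_
    have h0 : ∑ i ∈ Finset.range r, ρ' (x ^ i) = 0 := hN
    have h1 := LinearMap.congr_fun h0 (s : W)
    rw [LinearMap.sum_apply, LinearMap.zero_apply] at h1
    rw [LinearMap.sum_apply, LinearMap.zero_apply, Submodule.coe_sum, Submodule.coe_zero, ← h1]
    refine Finset.sum_congr rfl fun i _ => ?_
    rw [← Units.val_pow_eq_pow_val, ← map_pow]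
    exact η_val _ _ s
  have hlow := sq_finrank_le (X : Module.End K S) hr hz hr0 hXr hXN θ fun f hf => by
    show (X : Module.End K S) * (f * (X⁻¹ : (Module.End K S)ˣ)) = f
    rw [← mul_assoc, ← hf, mul_assoc, Units.mul_inv, mul_one]
  have hE : finrank K (Module.End K S) = finrank K S ^ 2 := by
    rw [Module.finrank_linearMap, pow_two]
  rw [hE] at hD
  have he : 0 < finrank K (fixSpace Φ) := Nat.pos_of_ne_zero fun h0 => by
    have hpos : 0 < finrank K S := Module.finrank_pos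
    rw [h0, mul_zero] at hD
    exact absurd hD.symm (pow_ne_zero 2 hpos.ne')
  have hn1 : 1 < Fintype.card (Q ⧸ Z.subgroupOf Q) := by
    rw [← Nat.card_eq_fintype_card, Finite.one_lt_card_iff_nontrivial]
    obtain ⟨a, ha, haZ⟩ := SetLike.not_le_iff_exists.mp hne
    exact ⟨((⟨a, ha⟩ : Q) : Q ⧸ Z.subgroupOf Q), 1, fun h => haZ (mem_subgroupOf.mp ((QuotientGroup.eq_one_iff _).mp h))⟩
  haveI : HasEnoughRootsOfUnity K (Monoid.exponent (Q ⧸ Z.subgroupOf Q)) := by
    have hd : Monoid.exponent (Q ⧸ Z.subgroupOf Q) ∣ q ^ j := hj ▸ Group.exponent_dvd_nat_card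
    haveI : NeZero (Monoid.exponent (Q ⧸ Z.subgroupOf Q) : K) := ⟨fun h => pow_cast_ne_zero hq0 j (by
      obtain ⟨d, hd⟩ := hd
      rw [hd, Nat.cast_mul, h, zero_mul])⟩
    infer_instance
  obtain ⟨L', hL'⟩ := exists_card_eq_sq c (fun a => by
    induction a using QuotientGroup.induction_on with
    | H a =>
      rw [c_mk]
      have h1 : cm a a = 1 := Subtype.ext (by simp [cm])
      rw [h1, map_one]) hnd
  rw [Nat.card_eq_fintype_card] at hL'
  obtain ⟨m, h1, h2, h3, h4⟩ := arith hq hr he hD hlow hkf hk hn1 hcardA hL'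
  refine ⟨m, h1, h2, h3, ?_⟩
  rw [Subgroup.relIndex, Subgroup.index_eq_card, Nat.card_eq_fintype_card, h4]

end Abstract

/-- The bound, over the prime field. -/
theorem heis_bound (ρ : H →* Module.End (ZMod p) V) (Q Z : Subgroup H) (x : H) {q r : ℕ} (hq : q.Prime)
    (hr : r.Prime) (hqp : q ≠ p) (hrp : r ≠ p) (hQ : IsPGroup q Q) (hxr : x ^ r = 1)
    (hN : ∑ i ∈ Finset.range r, ρ (x ^ i) = 0) (hxQ : ∀ a ∈ Q, x * a * x⁻¹ ∈ Q) (hZQ : Z ≤ Q) (hne : ¬ Q ≤ Z)
    (hcomm : ∀ a ∈ Q, ∀ b ∈ Q, a * b * a⁻¹ * b⁻¹ ∈ Z) (hZc : ∀ z ∈ Z, ∀ a ∈ Q, Commute z a)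
    (hZx : ∀ z ∈ Z, Commute x z) (hfix : ∀ a ∈ Q, x * a * x⁻¹ * a⁻¹ ∈ Z → a ∈ Z)
    {ζ : H} (hζ : ζ ∈ Z) (hζ1 : ρ ζ ≠ 1)
    (hrad : ∀ K1 : Subgroup H, K1 ≤ Z → ζ ∉ K1 → ∀ a ∈ Q, (∀ b ∈ Q, a * b * a⁻¹ * b⁻¹ ∈ K1) → a ∈ Z) :
    ∃ m, 0 < m ∧ q = 2 ∧ r = 2 ^ m + 1 ∧ Z.relIndex Q = 2 ^ (2 * m) :=
  heis_bound_aux ((Module.End.baseChangeHom (ZMod p) (Kp p) V).toMonoidHom.comp ρ) Q Z x hq hr
    (by simpa using cast_ne_zero_of_pow (p := p) (k := 1) hq hqp (dvd_of_eq (pow_one q).symm))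
    (by simpa using cast_ne_zero_of_pow (p := p) (k := 1) hr hrp (dvd_of_eq (pow_one r).symm))
    hQ hxr (by
      have h := congrArg (Module.End.baseChangeHom (ZMod p) (Kp p) V) hN
      rw [map_sum, map_zero] at h
      exact h) hxQ hZQ hne hcomm hZc hZx hfix hζ
    (fun h => hζ1 (baseChange_eq_one h)) hrad

end Cfsg.Agent.CoprimeFixed
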