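import Mathlib
import Cfsg.Prelude.Def_Transfer
import Cfsg.Agent.CoprimeFixed.Heis

/-!
Coprime action of an element of prime order, without fixed vectors, on a module: the groups it
normalises act trivially modulo their fixed points, apart from the exceptional two-group case.
-/

set_option autoImplicit false
set_option linter.unusedSectionVars false

namespace Cfsg.Agent.CoprimeFixed

open Module Subgroup
open scoped commutatorElement

universe u

section Model

variable {G : Type u} [Group G]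

/-- An elementary abelian subgroup as a module for its normaliser. -/
theorem exists_rep [Finite G] (V : Subgroup G) {p : ℕ} (hV : Cfsg.IsElementaryAbelian p V) :
    ∃ (W : Type u) (_ : AddCommGroup W) (_ : Module (ZMod p) W) (_ : Finite W)
      (ρ : normalizer (V : Set G) →* Module.End (ZMod p) W) (e : W ≃ V),
      (∀ u w : W, (e (u + w) : G) = e u * e w) ∧ ∀ m w, (e (ρ m w) : G) = m * e w * (m : G)⁻¹ := by
  letI : CommGroup V := { (inferInstance : Group V) with mul_comm := fun a b => hV.1.is_comm.comm a b }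
  obtain ⟨hmod⟩ : Nonempty (Module (ZMod p) (Additive V)) := ⟨AddCommGroup.zmodModule fun v =>
    Additive.toMul.injective (Subtype.ext (by
      show ((Additive.toMul v ^ p : V) : G) = 1
      exact hV.2 _ (Additive.toMul v).2))⟩
  letI := hmod
  let c : normalizer (V : Set G) → V → V := fun m v =>
    ⟨m * v * (m : G)⁻¹, (mem_normalizer_iff.mp m.2 v).mp v.2⟩
  let f : normalizer (V : Set G) → Module.End (ZMod p) (Additive V) := fun m =>
    (AddMonoidHom.mk' (fun w : Additive V => Additive.ofMul (c m (Additive.toMul w))) (fun u w =>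
      Additive.toMul.injective (Subtype.ext (by simp [c])))).toZModLinearMap p
  let ρ : normalizer (V : Set G) →* Module.End (ZMod p) (Additive V) :=
    { toFun := f
      map_one' := by
        refine LinearMap.ext fun w => Additive.toMul.injective (Subtype.ext ?_)
        simp only [f, AddMonoidHom.coe_toZModLinearMap, Module.End.one_apply, AddMonoidHom.mk'_apply]
        simp [c]
      map_mul' := fun a b => by
        refine LinearMap.ext fun w => Additive.toMul.injective (Subtype.ext ?_)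
        simp only [f, AddMonoidHom.coe_toZModLinearMap, Module.End.mul_apply, AddMonoidHom.mk'_apply]
        simp [c, mul_assoc] }
  exact ⟨Additive V, inferInstance, inferInstance, Finite.of_equiv _ Additive.ofMul, ρ,
    Additive.toMul, fun u w => rfl, fun m w => rfl⟩

variable {V : Subgroup G} {W : Type*} [AddCommGroup W] {p : ℕ} [Module (ZMod p) W]
  {ρ : normalizer (V : Set G) →* Module.End (ZMod p) W} {e : W ≃ V}

theorem model_zero (hadd : ∀ u w : W, (e (u + w) : G) = e u * e w) : (e 0 : G) = 1 := by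
  have h := hadd 0 0
  rw [add_zero] at h
  exact left_eq_mul.mp h

theorem model_eq_one_iff (hconj : ∀ m w, (e (ρ m w) : G) = m * e w * (m : G)⁻¹)
    (m : normalizer (V : Set G)) : ρ m = 1 ↔ (m : G) ∈ centralizer (V : Set G) := by
  constructor
  · intro h
    rw [mem_centralizer_iff]
    intro v hv
    have h1 := hconj m (e.symm ⟨v, hv⟩)
    rw [h, Module.End.one_apply, e.apply_symm_apply] at h1
    exact (mul_inv_eq_iff_eq_mul.mp h1.symm).symm
  · intro h
    refine LinearMap.ext fun w => e.injective (Subtype.ext ?_)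
    rw [hconj, ← mem_centralizer_iff.mp h _ (e w).2, mul_inv_cancel_right, Module.End.one_apply]

theorem model_fixed_iff (hconj : ∀ m w, (e (ρ m w) : G) = m * e w * (m : G)⁻¹)
    (m : normalizer (V : Set G)) (w : W) : ρ m w = w ↔ Commute (m : G) (e w) := by
  rw [← e.apply_eq_iff_eq, ← Subtype.coe_inj, hconj, mul_inv_eq_iff_eq_mul]
  rfl

end Model

section General

variable {H : Type*} [Group H] {K : Type*} [Field K] {W : Type*} [AddCommGroup W] [Module K W]

theorem apply_sum_pow (ρ : H →* Module.End K W) {x : H} {r : ℕ} (hxr : x ^ r = 1) (w : W) :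
    ρ x ((∑ i ∈ Finset.range r, ρ (x ^ i)) w) = (∑ i ∈ Finset.range r, ρ (x ^ i)) w := by
  simp only [LinearMap.sum_apply, map_sum]
  simp only [← Module.End.mul_apply, ← map_mul, ← pow_succ']
  have h1 := Finset.sum_range_succ' (fun i => ρ (x ^ i) w) r
  have h2 := Finset.sum_range_succ (fun i => ρ (x ^ i) w) r
  rw [h2, hxr, pow_zero] at h1
  exact (add_right_cancel h1).symm

theorem sum_pow_eq_zero (ρ : H →* Module.End K W) {x : H} {r : ℕ} (hxr : x ^ r = 1)
    (h : ∀ w, ρ x w = w → w = 0) : ∑ i ∈ Finset.range r, ρ (x ^ i) = 0 :=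
  LinearMap.ext fun w => h _ (apply_sum_pow ρ hxr w)

theorem eq_one_of_central_commutator {x a : H} {r q k : ℕ} (hxr : x ^ r = 1) (hr : r.Prime) (hq : q.Prime)
    (hqr : q ≠ r) (hc : Commute x (x * a * x⁻¹ * a⁻¹)) (hcq : (x * a * x⁻¹ * a⁻¹) ^ q ^ k = 1) :
    x * a * x⁻¹ * a⁻¹ = 1 := by
  have h : ∀ i : ℕ, x ^ i * a * (x ^ i)⁻¹ = (x * a * x⁻¹ * a⁻¹) ^ i * a := by
    intro i
    induction i with
    | zero => simp
    | succ i ih =>
      calc x ^ (i + 1) * a * (x ^ (i + 1))⁻¹ = x * (x ^ i * a * (x ^ i)⁻¹) * x⁻¹ := by rw [pow_succ']; group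
        _ = x * ((x * a * x⁻¹ * a⁻¹) ^ i * a) * x⁻¹ := by rw [ih]
        _ = (x * a * x⁻¹ * a⁻¹) ^ i * (x * a * x⁻¹) := by
          rw [← mul_assoc x, (hc.pow_right i).eq]; group
        _ = _ := by rw [pow_succ]; group
  have hr1 := h r
  rw [hxr, inv_one, mul_one, one_mul] at hr1
  have h1 : (x * a * x⁻¹ * a⁻¹) ^ r = 1 := mul_eq_right.mp hr1.symm
  have h2 : (x * a * x⁻¹ * a⁻¹) ^ Nat.gcd r (q ^ k) = 1 := pow_gcd_eq_one.mpr ⟨h1, hcq⟩
  rwa [Nat.coprime_iff_gcd_eq_one.mp (((Nat.coprime_primes hr hq).mpr hqr.symm).pow_right k), pow_one] at h2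

/-- The conjugate average kills the commutators of an abelian group with a fixed-point-free element. -/
theorem abelian_trivial [Finite H] (ρ : H →* Module.End K W) (A : Subgroup H)
    (hA : ∀ a ∈ A, ∀ b ∈ A, Commute a b) {x : H} {r : ℕ} (hr : r.Prime) (hxr : x ^ r = 1)
    (hxA : ∀ a ∈ A, x * a * x⁻¹ ∈ A) (hcard : (Nat.card A : K) ≠ 0)
    (hN : ∑ i ∈ Finset.range r, ρ (x ^ i) = 0) {a : H} (ha : a ∈ A) : ρ (a⁻¹ * (x * a * x⁻¹)) = 1 := by
  classical
  haveI := Fintype.ofFinite A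
  have hpowA : ∀ i : ℕ, ∀ b ∈ A, x ^ i * b * (x ^ i)⁻¹ ∈ A := by
    intro i
    induction i with
    | zero => intro b hb; simpa using hb
    | succ i ih =>
      intro b hb
      rw [pow_succ', show x * x ^ i * b * (x * x ^ i)⁻¹ = x * (x ^ i * b * (x ^ i)⁻¹) * x⁻¹ by group]
      exact hxA _ (ih b hb)
  set T : ℕ → Module.End K W := fun i => ∑ b : A, ρ ((b : H)⁻¹ * (x ^ i * b * (x ^ i)⁻¹)) with hT
  have habs : ∀ (i : ℕ), ∀ b ∈ A, T i * ρ (b⁻¹ * (x ^ i * b * (x ^ i)⁻¹)) = T i := by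
    intro i b hb
    rw [hT, Finset.sum_mul]
    refine Fintype.sum_equiv (Equiv.mulRight (⟨b, hb⟩ : A)) _ _ fun c => ?_
    rw [← map_mul, Equiv.coe_mulRight, Subgroup.coe_mul]
    congr 1
    set c' := x ^ i * (c : H) * (x ^ i)⁻¹
    have hc1 : Commute b⁻¹ ((c : H)⁻¹ * c') :=
      hA _ (A.inv_mem hb) _ (A.mul_mem (A.inv_mem c.2) (hpowA i _ c.2))
    calc (c : H)⁻¹ * c' * (b⁻¹ * (x ^ i * b * (x ^ i)⁻¹))
        = ((c : H)⁻¹ * c' * b⁻¹) * (x ^ i * b * (x ^ i)⁻¹) := (mul_assoc _ _ _).symm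
      _ = b⁻¹ * ((c : H)⁻¹ * c') * (x ^ i * b * (x ^ i)⁻¹) := by rw [hc1.eq]
      _ = _ := by simp only [c']; group
  have habs1 : ∀ i, i ≠ 0 → i < r → ∀ b ∈ A, T i * ρ (b⁻¹ * (x * b * x⁻¹)) = T i := by
    intro i hi0 hir b hb
    obtain ⟨k, -, hk⟩ := Nat.exists_mul_mod_eq_one_of_coprime (n := i) (k := r) (Nat.coprime_comm.mp
      (hr.coprime_iff_not_dvd.mpr fun hd => absurd (Nat.le_of_dvd (Nat.pos_of_ne_zero hi0) hd) (by omega)))
      hr.one_lt
    have key : ∀ m : ℕ, T i * ρ (b⁻¹ * ((x ^ i) ^ m * b * ((x ^ i) ^ m)⁻¹)) = T i := by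
      intro m
      induction m with
      | zero => simp
      | succ m ih =>
        have hbm : (x ^ i) ^ m * b * ((x ^ i) ^ m)⁻¹ ∈ A := by rw [← pow_mul]; exact hpowA _ b hb
        calc T i * ρ (b⁻¹ * ((x ^ i) ^ (m + 1) * b * ((x ^ i) ^ (m + 1))⁻¹))
            = T i * ρ (b⁻¹ * ((x ^ i) ^ m * b * ((x ^ i) ^ m)⁻¹)) *
              ρ (((x ^ i) ^ m * b * ((x ^ i) ^ m)⁻¹)⁻¹ *
                (x ^ i * ((x ^ i) ^ m * b * ((x ^ i) ^ m)⁻¹) * (x ^ i)⁻¹)) := by
              rw [mul_assoc (T i), ← map_mul, pow_succ' (x ^ i)]; congr 2; group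
          _ = T i := by rw [ih, habs i _ hbm]
    have h1 := key k
    rwa [← pow_mul, ← Nat.mod_add_div (i * k) r, hk, pow_add, pow_one, pow_mul, hxr, one_pow, mul_one] at h1
  have hT1 : ∀ i, i ≠ 0 → i < r → T i * T 1 = (Nat.card A : K) • T i := by
    intro i hi0 hir
    rw [show T 1 = ∑ b : A, ρ ((b : H)⁻¹ * (x * b * x⁻¹)) by simp [hT], Finset.mul_sum,
      Finset.sum_congr rfl fun (b : A) _ => habs1 i hi0 hir (b : H) b.2, Finset.sum_const, Finset.card_univ,
      Nat.cast_smul_eq_nsmul, Nat.card_eq_fintype_card]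
  have hcomm : Commute (ρ x) (T 1) := by
    show ρ x * T 1 = T 1 * ρ x
    rw [hT, Finset.mul_sum, Finset.sum_mul]
    let σ : A → A := fun b => ⟨x * b * x⁻¹, hxA b b.2⟩
    have hσ : Function.Bijective σ := Finite.injective_iff_bijective.mp fun b c h =>
      Subtype.ext (by simpa [σ] using congrArg Subtype.val h)
    refine Fintype.sum_bijective σ hσ _ _ fun b => ?_
    rw [← map_mul, ← map_mul]
    congr 1
    simp only [σ, pow_one]
    group
  have hinj : ∀ v : W, T 1 v = 0 → v = 0 := by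
    intro v hv
    have hz : ∑ i ∈ Finset.range r, T i (ρ (x ^ i) v) = 0 := by
      have h1 : ∀ i, T i (ρ (x ^ i) v) = ∑ b : A, ρ ((b : H)⁻¹) (ρ (x ^ i) (ρ (b : H) v)) := by
        intro i
        simp only [hT, LinearMap.sum_apply, ← Module.End.mul_apply, ← map_mul]
        refine Finset.sum_congr rfl fun b _ => ?_
        congr 2
        group
      simp only [h1]
      rw [Finset.sum_comm]
      refine Finset.sum_eq_zero fun b _ => ?_
      rw [← map_sum, ← LinearMap.sum_apply, hN, LinearMap.zero_apply, map_zero]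
    rw [Finset.sum_eq_single 0] at hz
    · have h0 : T 0 = (Nat.card A : K) • (1 : Module.End K W) := by
        show ∑ b : A, ρ ((b : H)⁻¹ * (x ^ 0 * b * (x ^ 0)⁻¹)) = _
        rw [Finset.sum_congr rfl fun (b : A) _ => (show ρ ((b : H)⁻¹ * (x ^ 0 * b * (x ^ 0)⁻¹)) = 1 by
            rw [show (b : H)⁻¹ * (x ^ 0 * b * (x ^ 0)⁻¹) = 1 by group, map_one]),
          Finset.sum_const, Finset.card_univ, Nat.card_eq_fintype_card, ← Nat.cast_smul_eq_nsmul K]
      rw [h0, pow_zero, map_one] at hz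
      exact (smul_eq_zero.mp (show (Nat.card A : K) • v = 0 by simpa using hz)).resolve_left hcard
    · intro i hi hi0
      have h2 : T 1 (ρ (x ^ i) v) = 0 := by
        rw [← Module.End.mul_apply, map_pow, ← (hcomm.pow_left i).eq, Module.End.mul_apply, hv, map_zero]
      have h3 := LinearMap.congr_fun (hT1 i hi0 (Finset.mem_range.mp hi)) (ρ (x ^ i) v)
      rw [Module.End.mul_apply, h2, map_zero, LinearMap.smul_apply] at h3
      exact (smul_eq_zero.mp h3.symm).resolve_left hcard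
    · intro h; exact absurd (Finset.mem_range.mpr hr.pos) h
  refine LinearMap.ext fun v => sub_eq_zero.mp (hinj _ ?_)
  have h4 := habs 1 a ha
  simp only [pow_one] at h4
  rw [map_sub, ← Module.End.mul_apply, h4, Module.End.one_apply, sub_self]

end General

section Exceptional

variable {p : ℕ} [hpF : Fact p.Prime] {H : Type*} [Group H] [Finite H]
  {V : Type*} [AddCommGroup V] [Module (ZMod p) V] [Finite V]

/-- A faithful `q`-group not centralised by an element without fixed vectors. -/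
theorem exceptional (ρ : H →* Module.End (ZMod p) V) (Q : Subgroup H) (x : H) {q r : ℕ} (hq : q.Prime)
    (hr : r.Prime) (hqp : q ≠ p) (hrp : r ≠ p) (hqr : q ≠ r) (hQ : IsPGroup q Q) (hxr : x ^ r = 1)
    (hN : ∑ i ∈ Finset.range r, ρ (x ^ i) = 0) (hxQ : ∀ a ∈ Q, x * a * x⁻¹ ∈ Q)
    (hfaith : ∀ a ∈ Q, ρ a = 1 → a = 1) (hne : ∃ a ∈ Q, x * a * x⁻¹ ≠ a) :
    q = 2 ∧ (∃ m, r = 2 ^ m + 1) ∧ ∃ a ∈ Q, ∃ b ∈ Q, a * b ≠ b * a := by
  classical
  obtain ⟨Q₀, ⟨hQ₀Q, hinv, hne₀⟩, hmin⟩ := wellFounded_lt.has_min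
    {U : Subgroup H | U ≤ Q ∧ (∀ a ∈ U, x * a * x⁻¹ ∈ U) ∧ ∃ a ∈ U, x * a * x⁻¹ ≠ a} ⟨Q, le_rfl, hxQ, hne⟩
  have hcent : ∀ U : Subgroup H, U ≤ Q₀ → U ≠ Q₀ → (∀ a ∈ U, x * a * x⁻¹ ∈ U) → ∀ a ∈ U, Commute x a := by
    intro U hU hU' hUi a ha
    by_contra h
    exact hmin U ⟨hU.trans hQ₀Q, hUi, a, ha, fun e => h (mul_inv_eq_iff_eq_mul.mp e)⟩ (lt_of_le_of_ne hU hU')
  have hQ₀ : IsPGroup q Q₀ := hQ.to_le hQ₀Q
  have hpow : ∀ a ∈ Q₀, ∃ k, a ^ q ^ k = 1 := fun a ha => by
    obtain ⟨k, hk⟩ := hQ₀ ⟨a, ha⟩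
    exact ⟨k, congrArg Subtype.val hk⟩
  haveI := Fact.mk hq
  -- not abelian
  obtain ⟨a₀, ha₀, b₀, hb₀, hab⟩ : ∃ a ∈ Q₀, ∃ b ∈ Q₀, a * b ≠ b * a := by
    by_contra hall
    push Not at hall
    obtain ⟨a, ha, hxa⟩ := hne₀
    obtain ⟨j, hj⟩ := IsPGroup.iff_card.mp hQ₀
    have hc : (Nat.card Q₀ : ZMod p) ≠ 0 := by
      rw [hj, Nat.cast_pow]
      refine pow_ne_zero _ fun h => hqp ?_
      exact ((Nat.prime_dvd_prime_iff_eq hpF.out hq).mp ((CharP.cast_eq_zero_iff (ZMod p) p q).mp h)).symm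
    have h1 := abelian_trivial ρ Q₀ hall hr hxr hinv hc hN ha
    exact hxa (inv_mul_eq_one.mp (hfaith _ (hQ₀Q (Q₀.mul_mem (Q₀.inv_mem ha) (hinv a ha))) h1)).symm
  -- the fixed points
  set C : Subgroup H := Q₀ ⊓ centralizer {x} with hC
  have hCx : ∀ z ∈ C, Commute x z := fun z hz => (mem_centralizer_singleton_iff.mp hz.2).symm
  have hfix : ∀ a ∈ Q₀, x * a * x⁻¹ * a⁻¹ ∈ C → a ∈ C := by
    intro a ha hc
    obtain ⟨k, hk⟩ := hpow _ hc.1
    have h1 := eq_one_of_central_commutator hxr hr hq hqr (hCx _ hc) hk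
    exact ⟨ha, mem_centralizer_singleton_iff.mpr (mul_inv_eq_iff_eq_mul.mp (mul_inv_eq_one.mp h1)).symm⟩
  have hCinv : ∀ z ∈ C, x * z * x⁻¹ ∈ C := fun z hz => by
    rwa [(hCx z hz).eq, mul_inv_cancel_right]
  -- `Q₀` is generated by its commutators with `x`
  set D : Subgroup H := closure {d | ∃ a ∈ Q₀, d = a⁻¹ * (x * a * x⁻¹)} with hD
  have hDle : D ≤ Q₀ := by
    rw [hD, closure_le]
    rintro _ ⟨a, ha, rfl⟩
    exact Q₀.mul_mem (Q₀.inv_mem ha) (hinv a ha)
  have hDtop : D = Q₀ := by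
    by_contra hDne
    have hDinv : ∀ a ∈ D, x * a * x⁻¹ ∈ D := by
      intro a ha
      induction ha using closure_induction with
      | mem y hy =>
        obtain ⟨b, hb, rfl⟩ := hy
        refine subset_closure ⟨x * b * x⁻¹, hinv b hb, ?_⟩
        group
      | one => simp
      | mul y z _ _ hy hz => simpa [mul_assoc] using D.mul_mem hy hz
      | inv y _ hy => simpa [mul_assoc] using D.inv_mem hy
    obtain ⟨a, ha, hxa⟩ := hne₀
    have h1 := hcent D hDle hDne hDinv _ (subset_closure ⟨a, ha, rfl⟩)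
    obtain ⟨k, hk⟩ := hpow a⁻¹ (Q₀.inv_mem ha)
    refine hxa ?_
    -- the commutator is central for `x`, hence trivial
    have hc2 : Commute x (a⁻¹ * (x * a * x⁻¹))⁻¹ := h1.inv_right
    have hc3 : (a⁻¹ * (x * a * x⁻¹))⁻¹ = x * a⁻¹ * x⁻¹ * (a⁻¹)⁻¹ := by group
    rw [hc3] at hc2
    obtain ⟨k', hk'⟩ := hpow _ (show x * a⁻¹ * x⁻¹ * (a⁻¹)⁻¹ ∈ Q₀ from
      Q₀.mul_mem (hinv _ (Q₀.inv_mem ha)) (Q₀.inv_mem (Q₀.inv_mem ha)))
    have h2 := eq_one_of_central_commutator hxr hr hq hqr hc2 hk'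
    rw [inv_inv] at h2
    have h3 : x * a⁻¹ * x⁻¹ = a⁻¹ := mul_eq_one_iff_eq_inv.mp h2
    simpa [mul_assoc] using congrArg (·⁻¹) h3
  -- normal invariant proper subgroups are central
  have hcentral : ∀ U : Subgroup H, U ≤ Q₀ → (∀ a ∈ Q₀, ∀ u ∈ U, a * u * a⁻¹ ∈ U) → (∀ u ∈ U, Commute x u) →
      ∀ u ∈ U, ∀ b ∈ Q₀, Commute u b := by
    intro U hU hUn hUx u hu b hb
    rw [← hDtop] at hb
    suffices h : D ≤ centralizer {u} from (mem_centralizer_singleton_iff.mp (h hb)).symm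
    rw [hD, closure_le]
    rintro _ ⟨a, ha, rfl⟩
    have h1 := (hUx _ (hUn a ha u hu)).eq
    have h2 := (hUx u hu).eq
    rw [SetLike.mem_coe, mem_centralizer_singleton_iff]
    calc a⁻¹ * (x * a * x⁻¹) * u = a⁻¹ * (x * a * (x⁻¹ * (u * x)) * x⁻¹) := by group
      _ = a⁻¹ * (x * a * (x⁻¹ * (x * u)) * x⁻¹) := by rw [h2]
      _ = a⁻¹ * ((x * (a * u * a⁻¹)) * a * x⁻¹) := by group
      _ = a⁻¹ * (((a * u * a⁻¹) * x) * a * x⁻¹) := by rw [h1]
      _ = u * (a⁻¹ * (x * a * x⁻¹)) := by group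
  -- commutators are fixed
  have hder : ⁅Q₀, Q₀⁆ ≤ C := by
    haveI : Group.IsNilpotent Q₀ := hQ₀.isNilpotent
    have hle : ⁅Q₀, Q₀⁆ ≤ Q₀ := commutator_le_self Q₀
    have hne' : ⁅Q₀, Q₀⁆ ≠ Q₀ := by
      intro heq
      haveI : Nontrivial Q₀ := ⟨⟨a₀, ha₀⟩, 1, fun e => hab (by simp [show a₀ = 1 from congrArg Subtype.val e])⟩
      have h1 : commutator Q₀ = ⊤ := by
        refine map_injective Q₀.subtype_injective ?_
        rw [map_subtype_commutator, heq, ← MonoidHom.range_eq_map, range_subtype]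
      exact (Group.IsSolvable.commutator_lt_top_of_nontrivial Q₀).ne h1
    have hinv' : ∀ a ∈ ⁅Q₀, Q₀⁆, x * a * x⁻¹ ∈ ⁅Q₀, Q₀⁆ := by
      intro a ha
      have hm : (⁅Q₀, Q₀⁆).map (MulAut.conj x).toMonoidHom ≤ ⁅Q₀, Q₀⁆ := by
        rw [Subgroup.map_commutator]
        exact commutator_mono (by rintro _ ⟨b, hb, rfl⟩; simpa using hinv b hb)
          (by rintro _ ⟨b, hb, rfl⟩; simpa using hinv b hb)
      simpa using hm (mem_map_of_mem (MulAut.conj x).toMonoidHom ha)
    exact fun a ha => ⟨hle ha, mem_centralizer_singleton_iff.mpr (hcent _ hle hne' hinv' a ha).eq.symm⟩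
  have hcomm : ∀ a ∈ Q₀, ∀ b ∈ Q₀, a * b * a⁻¹ * b⁻¹ ∈ C := fun a ha b hb =>
    hder (commutator_mem_commutator ha hb)
  have hCn : ∀ a ∈ Q₀, ∀ u ∈ C, a * u * a⁻¹ ∈ C := fun a ha u hu => by
    rw [show a * u * a⁻¹ = (a * u * a⁻¹ * u⁻¹) * u by group]
    exact C.mul_mem (hcomm a ha u hu.1) hu
  have hCc : ∀ z ∈ C, ∀ a ∈ Q₀, Commute z a := hcentral C inf_le_left hCn hCx
  set ζ := a₀ * b₀ * a₀⁻¹ * b₀⁻¹ with hζdef
  have hζ1 : ρ ζ ≠ 1 := fun h => hab (commutatorElement_eq_one_iff_mul_comm.mp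
    (hfaith _ (hQ₀Q (hcomm a₀ ha₀ b₀ hb₀).1) h))
  have hQC : ¬ Q₀ ≤ C := fun h => by
    obtain ⟨a, ha, hxa⟩ := hne₀
    exact hxa (mul_inv_eq_iff_eq_mul.mpr (hCx a (h ha)).eq)
  have hrad : ∀ K1 : Subgroup H, K1 ≤ C → ζ ∉ K1 →
      ∀ a ∈ Q₀, (∀ b ∈ Q₀, a * b * a⁻¹ * b⁻¹ ∈ K1) → a ∈ C := by
    intro K1 hK1 hζK1
    let Rd : Subgroup H :=
      { carrier := {a | a ∈ Q₀ ∧ ∀ b ∈ Q₀, a * b * a⁻¹ * b⁻¹ ∈ K1}
        one_mem' := ⟨Q₀.one_mem, fun b _ => by simp⟩
        mul_mem' := fun {a a'} ha ha' => ⟨Q₀.mul_mem ha.1 ha'.1, fun b hb => by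
          have h1 := hCc _ (hcomm a' ha'.1 b hb) a ha.1
          have h2 : a * a' * b * (a * a')⁻¹ * b⁻¹ = a * (a' * b * a'⁻¹ * b⁻¹) * a⁻¹ * (a * b * a⁻¹ * b⁻¹) := by
            group
          rw [h2, ← h1.eq, mul_inv_cancel_right]
          exact K1.mul_mem (ha'.2 b hb) (ha.2 b hb)⟩
        inv_mem' := fun {a} ha => ⟨Q₀.inv_mem ha.1, fun b hb => by
          have h1 := hCc _ (hcomm a ha.1 b hb) _ (Q₀.inv_mem ha.1)
          have h2 : a⁻¹ * b * a⁻¹⁻¹ * b⁻¹ = (a⁻¹ * (a * b * a⁻¹ * b⁻¹) * a⁻¹⁻¹)⁻¹ := by group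
          rw [h2, ← h1.eq, mul_inv_cancel_right]
          exact K1.inv_mem (ha.2 b hb)⟩ }
    have hRinv : ∀ a ∈ Rd, x * a * x⁻¹ ∈ Rd := fun a ha => ⟨hinv a ha.1, fun b hb => by
      have hxinv : x⁻¹ * b * x ∈ Q₀ := by
        have hb' : ∀ i : ℕ, x ^ i * b * (x ^ i)⁻¹ ∈ Q₀ := by
          intro i
          induction i with
          | zero => simpa using hb
          | succ i ih =>
            rw [pow_succ', show x * x ^ i * b * (x * x ^ i)⁻¹ = x * (x ^ i * b * (x ^ i)⁻¹) * x⁻¹ by group]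
            exact hinv _ ih
        have hinvx : x⁻¹ = x ^ (r - 1) := inv_eq_of_mul_eq_one_right
          (by rw [← pow_succ', Nat.sub_add_cancel hr.pos, hxr])
        have := hb' (r - 1)
        rwa [← hinvx, inv_inv] at this
      have h1 := hCx _ (hK1 (ha.2 _ hxinv))
      have h2 : x * a * x⁻¹ * b * (x * a * x⁻¹)⁻¹ * b⁻¹ =
          x * (a * (x⁻¹ * b * x) * a⁻¹ * (x⁻¹ * b * x)⁻¹) * x⁻¹ := by group
      rw [h2, h1.eq, mul_inv_cancel_right]
      exact ha.2 _ hxinv⟩
    intro a ha hall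
    by_cases hR : Rd = Q₀
    · exact absurd ((hR.ge ha₀).2 b₀ hb₀) hζK1
    · exact ⟨ha, mem_centralizer_singleton_iff.mpr
        (hcent Rd (fun c hc => hc.1) hR hRinv a ⟨ha, hall⟩).eq.symm⟩
  obtain ⟨m, -, hq2, hrm, -⟩ := heis_bound ρ Q₀ C x hq hr hqp hrp hQ₀ hxr hN hinv inf_le_left hQC hcomm hCc hCx
    hfix (hcomm a₀ ha₀ b₀ hb₀) hζ1 hrad
  exact ⟨hq2, ⟨m, hrm⟩, a₀, hQ₀Q ha₀, b₀, hQ₀Q hb₀, hab⟩

/-- In odd order an element without fixed vectors acts trivially on the image of a normal Hall subgroup. -/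
theorem commute_of_fpf (ρ : H →* Module.End (ZMod p) V) (Q : Subgroup H) (x : H) {q r : ℕ} (hq : q.Prime)
    (hr : r.Prime) (hqp : q ≠ p) (hrp : r ≠ p) (hqr : q ≠ r) (hq2 : q ≠ 2) (hQ : IsPGroup q Q)
    (hxr : x ^ r = 1) (hN : ∑ i ∈ Finset.range r, ρ (x ^ i) = 0) (hxQ : ∀ a ∈ Q, x * a * x⁻¹ ∈ Q)
    {a : H} (ha : a ∈ Q) : ρ (x * a) = ρ (a * x) := by
  haveI : Finite (Module.End (ZMod p) V) := Finite.of_injective _ DFunLike.coe_injective
  set η := ρ.toHomUnits with hη
  have hval : ∀ h, (η h : Module.End (ZMod p) V) = ρ h := fun h => rfl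
  by_contra hne
  refine hq2 (exceptional (Units.coeHom (Module.End (ZMod p) V)) (Q.map η) (η x) hq hr hqp hrp hqr
    (hQ.map η) (by rw [← map_pow, hxr, map_one]) ?_ ?_ (fun u _ hu => Units.ext hu) ?_).1
  · simpa [← map_pow, hval] using hN
  · rintro _ ⟨b, hb, rfl⟩
    exact ⟨_, hxQ b hb, by rw [map_mul, map_mul, map_inv]⟩
  · refine ⟨η a, mem_map_of_mem η ha, fun he => hne ?_⟩
    rw [mul_inv_eq_iff_eq_mul, ← map_mul, ← map_mul] at he
    exact congrArg Units.val he

end Exceptional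

section Frobenius

variable {H : Type*} [Group H] [Finite H] {K : Type*} [Field K] [IsAlgClosed K] {W : Type*} [AddCommGroup W]
  [Module K W] [FiniteDimensional K W]

/-- A fixed-point-free element with at most one fixed vector on a free module forces trivial centre. -/
theorem eq_one_of_center (ρ : H →* Module.End K W) (N : Subgroup H) (x : H) {r : ℕ} (hr : r.Prime)
    (hxr : x ^ r = 1) (hxN : ∀ a ∈ N, x * a * x⁻¹ ∈ N) (hr0 : (r : K) ≠ 0) (hN0 : (Nat.card N : K) ≠ 0)
    (hfpf : ∀ a ∈ N, x * a * x⁻¹ = a → a = 1)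
    (hline : finrank K (LinearMap.ker (ρ x - 1) : Submodule K W) ≤ 1)
    (hD : ∀ w, (∀ d ∈ ⁅N, N⁆, ρ d w = w) → w = 0)
    {z : H} (hz : z ∈ N) (hzc : ∀ a ∈ N, Commute z a) : ρ z = 1 := by
  classical
  by_contra hρz
  set Z : Subgroup H := N ⊓ centralizer (N : Set H) with hZ
  have hZc : ∀ y ∈ Z, ∀ a ∈ N, Commute y a := fun y hy a ha => (mem_centralizer_iff.mp hy.2 a ha).symm
  have hzZ : z ∈ Z := ⟨hz, mem_centralizer_iff.mpr fun a ha => (hzc a ha).eq.symm⟩
  have hzpow : z ^ Nat.card N = 1 := congrArg Subtype.val (pow_card_eq_one' (x := (⟨z, hz⟩ : N)))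
  obtain ⟨S, hS, hinv, hscal, hfree⟩ := exists_scalar_space ρ N Z 1 inf_le_left hZc
    (fun y _ => Commute.one_left y) hzZ hρz hzpow hN0
  -- conjugation of the centre
  have hZx : ∀ y ∈ Z, x * y * x⁻¹ ∈ Z := by
    intro y hy
    refine ⟨hxN y hy.1, mem_centralizer_iff.mpr fun a ha => ?_⟩
    have hinvx : x⁻¹ * a * x ∈ N := by
      have hb' : ∀ i : ℕ, x ^ i * a * (x ^ i)⁻¹ ∈ N := by
        intro i
        induction i with
        | zero => simpa using ha
        | succ i ih =>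
          rw [pow_succ', show x * x ^ i * a * (x * x ^ i)⁻¹ = x * (x ^ i * a * (x ^ i)⁻¹) * x⁻¹ by group]
          exact hxN _ ih
      have hix : x⁻¹ = x ^ (r - 1) := inv_eq_of_mul_eq_one_right
        (by rw [← pow_succ', Nat.sub_add_cancel hr.pos, hxr])
      have := hb' (r - 1)
      rwa [← hix, inv_inv] at this
    have h1 := (hZc y hy _ hinvx).eq
    calc a * (x * y * x⁻¹) = x * ((x⁻¹ * a * x) * y) * x⁻¹ := by group
      _ = x * (y * (x⁻¹ * a * x)) * x⁻¹ := by rw [h1]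
      _ = x * y * x⁻¹ * a := by group
  letI : CommGroup Z := { (inferInstance : Group Z) with
    mul_comm := fun a b => Subtype.ext (hZc a a.2 b b.2.1).eq }
  haveI := Fintype.ofFinite Z
  have hZ0 : (Fintype.card Z : K) ≠ 0 := by
    intro h
    obtain ⟨d, hd⟩ := card_dvd_of_le (inf_le_left : Z ≤ N)
    rw [← Nat.card_eq_fintype_card] at h
    exact hN0 (by rw [hd, Nat.cast_mul, h, zero_mul])
  haveI : Nontrivial S := Submodule.nontrivial_iff_ne_bot.mpr hS
  obtain ⟨⟨s₀, hs₀⟩, hs₀ne⟩ := exists_ne (0 : S)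
  have hs₀' : s₀ ≠ 0 := fun h => hs₀ne (Subtype.ext h)
  choose μ hμ using fun y : Z => hscal y y.2
  have hμmul : ∀ a b : Z, μ (a * b) = μ a * μ b := fun a b => by
    refine smul_left_injective K hs₀' ?_
    show μ (a * b) • s₀ = (μ a * μ b) • s₀
    rw [← hμ _ s₀ hs₀, Subgroup.coe_mul, map_mul, Module.End.mul_apply, hμ b s₀ hs₀, map_smul, hμ a s₀ hs₀,
      smul_smul, mul_comm]
  have hμ1 : μ 1 = 1 := smul_left_injective K hs₀' (by
    show μ 1 • s₀ = (1 : K) • s₀
    rw [← hμ _ s₀ hs₀, OneMemClass.coe_one, map_one, one_smul, Module.End.one_apply])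
  let χ : Z →* Kˣ := (MonoidHom.toHomUnits
    { toFun := μ, map_one' := hμ1, map_mul' := hμmul })
  have hχ : ∀ (y : Z), ∀ s ∈ S, ρ y s = ((χ y : Kˣ) : K) • s := fun y s hs => hμ y s hs
  -- the shifted characters differ
  let σ : ℕ → (Z →* Z) := fun i => MonoidHom.mk'
    (fun y => (⟨(x ^ i)⁻¹ * y * x ^ i, by
      have hb : ∀ j : ℕ, x ^ j * (y : H) * (x ^ j)⁻¹ ∈ Z := by
        intro j
        induction j with
        | zero => simp
        | succ j ih =>
          rw [pow_succ', show x * x ^ j * (y : H) * (x * x ^ j)⁻¹ = x * (x ^ j * y * (x ^ j)⁻¹) * x⁻¹ by group]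
          exact hZx _ ih
      have hix : (x ^ i)⁻¹ = x ^ (i * (r - 1)) := inv_eq_of_mul_eq_one_right (by
        rw [← pow_add, show i + i * (r - 1) = r * i by
          rw [Nat.mul_comm r, Nat.mul_sub, mul_one, Nat.add_sub_cancel' (Nat.le_mul_of_pos_right i hr.pos)],
          pow_mul, hxr, one_pow])
      have := hb (i * (r - 1))
      rwa [← hix, inv_inv] at this⟩ : Z)) fun a b => Subtype.ext (by
        simp only [Subgroup.coe_mul]
        group)
  have hχne : ∀ i, i ≠ 0 → i < r → χ⁻¹ * χ.comp (σ i) ≠ 1 := by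
    intro i hi0 hir h
    have h1 : ∀ y : Z, χ (σ i y) = χ y := fun y => by
      have := DFunLike.congr_fun h y
      simp only [MonoidHom.mul_apply, MonoidHom.inv_apply, MonoidHom.comp_apply, MonoidHom.one_apply] at this
      exact (inv_mul_eq_one.mp this).symm
    let τ : Z →* Z := (σ i) / (MonoidHom.id Z)
    have hτ : Function.Injective τ := by
      rw [← MonoidHom.ker_eq_bot_iff, eq_bot_iff]
      intro y hy
      rw [MonoidHom.mem_ker, MonoidHom.div_apply, div_eq_one] at hy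
      have h2 : (x ^ i)⁻¹ * y * x ^ i = (y : H) := congrArg Subtype.val hy
      have h3 : Commute (x ^ i) (y : H) := by
        have := congrArg (x ^ i * ·) h2
        simp only [← mul_assoc, mul_inv_cancel, one_mul] at this
        exact this.symm
      obtain ⟨k, -, hk⟩ := Nat.exists_mul_mod_eq_one_of_coprime (n := i) (k := r) (Nat.coprime_comm.mp
        (hr.coprime_iff_not_dvd.mpr fun hd => absurd (Nat.le_of_dvd (Nat.pos_of_ne_zero hi0) hd) (by omega)))
        hr.one_lt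
      have h4 := (h3.pow_left k).eq
      rw [← pow_mul, ← Nat.mod_add_div (i * k) r, hk, pow_add, pow_one, pow_mul, hxr, one_pow, mul_one] at h4
      exact mem_bot.mpr (Subtype.ext (hfpf _ y.2.1 (mul_inv_eq_iff_eq_mul.mpr h4)))
    obtain ⟨y, hy⟩ := Finite.surjective_of_injective hτ ⟨z, hzZ⟩
    refine hs₀' (hfree s₀ hs₀ ?_)
    have h5 : χ ⟨z, hzZ⟩ = 1 := by
      rw [← hy, MonoidHom.div_apply, map_div, h1, MonoidHom.id_apply, div_self']
    rw [hχ ⟨z, hzZ⟩ s₀ hs₀, h5, Units.val_one, one_smul]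
  -- the orbit sum is injective on the scalar space
  let Sx : Module.End K W := ∑ i ∈ Finset.range r, ρ (x ^ i)
  let f : S →ₗ[K] (LinearMap.ker (ρ x - 1) : Submodule K W) :=
    (Sx.comp S.subtype).codRestrict _ fun s => by
      rw [LinearMap.mem_ker, LinearMap.sub_apply, Module.End.one_apply, sub_eq_zero]
      exact apply_sum_pow ρ hxr _
  have hfinj : Function.Injective f := by
    rw [← LinearMap.ker_eq_bot, LinearMap.ker_eq_bot']
    rintro ⟨s, hs⟩ hfs
    refine Subtype.ext ?_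
    let P : Module.End K W := ∑ y : Z, (((χ y)⁻¹ : Kˣ) : K) • ρ y
    have h0 : P (Sx s) = 0 := by
      have : Sx s = 0 := congrArg Subtype.val hfs
      rw [this, map_zero]
    have hterm : ∀ i, P (ρ (x ^ i) s) = (∑ y : Z, (((χ⁻¹ * χ.comp (σ i)) y : Kˣ) : K)) • ρ (x ^ i) s := by
      intro i
      rw [Finset.sum_smul]
      simp only [P, LinearMap.sum_apply, LinearMap.smul_apply]
      refine Finset.sum_congr rfl fun y _ => ?_
      rw [← Module.End.mul_apply, ← map_mul,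
        show (y : H) * x ^ i = x ^ i * ((σ i y : Z) : H) by simp [σ, ← mul_assoc], map_mul, Module.End.mul_apply,
        hχ _ s hs, map_smul, smul_smul, MonoidHom.mul_apply, MonoidHom.inv_apply, Units.val_mul,
        MonoidHom.comp_apply]
    simp only [Sx, LinearMap.sum_apply, map_sum, hterm] at h0
    rw [Finset.sum_eq_single 0] at h0
    · have hσ0 : χ⁻¹ * χ.comp (σ 0) = 1 := MonoidHom.ext fun y => by
        have : σ 0 y = y := Subtype.ext (by simp [σ])
        simp [this]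
      rw [hσ0, pow_zero, map_one, Module.End.one_apply] at h0
      exact (smul_eq_zero.mp (show (Fintype.card Z : K) • s = 0 by simpa using h0)).resolve_left hZ0
    · intro i hi hi0
      rw [sum_char (hχne i hi0 (Finset.mem_range.mp hi)), zero_smul]
    · intro h; exact absurd (Finset.mem_range.mpr hr.pos) h
  have hS1 : finrank K S ≤ 1 := (LinearMap.finrank_le_finrank_of_injective hfinj).trans hline
  -- so `N` acts by scalars
  have hsc : ∀ a ∈ N, ∃ t : K, ρ a s₀ = t • s₀ := fun a ha => by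
    obtain ⟨t, ht⟩ := (finrank_eq_one_iff_of_nonzero' (⟨s₀, hs₀⟩ : S) hs₀ne).mp
      (le_antisymm hS1 Module.finrank_pos) ⟨ρ a s₀, hinv a (Or.inl ha) s₀ hs₀⟩
    exact ⟨t, (congrArg Subtype.val ht).symm⟩
  let Fx : Subgroup H :=
    { carrier := {d | ρ d s₀ = s₀}
      one_mem' := by simp
      mul_mem' := fun {a b} (ha : ρ a s₀ = s₀) (hb : ρ b s₀ = s₀) =>
        show ρ (a * b) s₀ = s₀ by rw [map_mul, Module.End.mul_apply, hb, ha]
      inv_mem' := fun {a} (ha : ρ a s₀ = s₀) => show ρ a⁻¹ s₀ = s₀ by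
        nth_rw 1 [← ha]
        rw [← Module.End.mul_apply, ← map_mul, inv_mul_cancel, map_one, Module.End.one_apply] }
  refine hs₀' (hD s₀ ?_)
  suffices h : ⁅N, N⁆ ≤ Fx from fun d hd => h hd
  rw [commutator_le]
  intro a ha b hb
  obtain ⟨t, ht⟩ := hsc a ha
  obtain ⟨u, hu⟩ := hsc b hb
  obtain ⟨t', ht'⟩ := hsc a⁻¹ (N.inv_mem ha)
  obtain ⟨u', hu'⟩ := hsc b⁻¹ (N.inv_mem hb)
  have e1 : t' * t = 1 := smul_left_injective K hs₀' (by
    show (t' * t) • s₀ = (1 : K) • s₀
    rw [mul_comm, mul_smul, ← ht', ← map_smul, ← ht', ← ht] at *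
    rw [one_smul, ← Module.End.mul_apply, ← map_mul, inv_mul_cancel, map_one, Module.End.one_apply])
  have e2 : u' * u = 1 := smul_left_injective K hs₀' (by
    show (u' * u) • s₀ = (1 : K) • s₀
    rw [mul_smul, one_smul]
    calc u' • u • s₀ = u • u' • s₀ := smul_comm _ _ _
      _ = ρ b⁻¹ (ρ b s₀) := by rw [hu, map_smul, hu']
      _ = s₀ := by rw [← Module.End.mul_apply, ← map_mul, inv_mul_cancel, map_one, Module.End.one_apply])
  show ρ ⁅a, b⁆ s₀ = s₀
  rw [commutatorElement_def, map_mul, map_mul, map_mul]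
  simp only [Module.End.mul_apply, hu', ht', hu, ht, map_smul, smul_smul]
  rw [show u' * (t' * (u * t)) = (t' * t) * (u' * u) by ring, e1, e2, one_mul, one_smul]

/-- The derived subgroup of a Frobenius kernel centralises a module on which the complement fixes a line. -/
theorem commutator_trivial (ρ : H →* Module.End K W) (N : Subgroup H) [N.Normal] (x : H) {r : ℕ}
    (hr : r.Prime) (hxr : x ^ r = 1) (hr0 : (r : K) ≠ 0) (hN0 : (Nat.card N : K) ≠ 0)
    (hnil : Group.IsNilpotent N) (hfpf : ∀ a ∈ N, x * a * x⁻¹ = a → a = 1)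
    (hline : finrank K (LinearMap.ker (ρ x - 1) : Submodule K W) ≤ 1) {d : H} (hd : d ∈ ⁅N, N⁆) : ρ d = 1 := by
  classical
  set D : Subgroup H := ⁅N, N⁆ with hDdef
  haveI := Fintype.ofFinite D
  set T : Module.End K W := ∑ e : D, ρ e with hT
  have hTd : ∀ e ∈ D, T * ρ e = T := fun e he => by
    rw [hT, Finset.sum_mul]
    exact Fintype.sum_equiv (Equiv.mulRight (⟨e, he⟩ : D)) _ _ fun c => by simp
  have hTh : ∀ h : H, ρ h * T = T * ρ h := fun h => by
    rw [hT, Finset.mul_sum, Finset.sum_mul]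
    refine Fintype.sum_equiv (MulAut.conjNormal h : MulAut D).toEquiv _ _ fun c => ?_
    rw [← map_mul, ← map_mul]
    congr 1
    show h * (c : H) = (MulAut.conjNormal h c : D) * h
    rw [MulAut.conjNormal_apply, inv_mul_cancel_right]
  have hD0 : (Fintype.card D : K) ≠ 0 := by
    intro h
    obtain ⟨k, hk⟩ := card_dvd_of_le (commutator_le_self N)
    rw [← Nat.card_eq_fintype_card, hDdef] at h
    exact hN0 (by rw [hk, Nat.cast_mul, h, zero_mul])
  let U : Submodule K W := LinearMap.ker T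
  have hU : ∀ h : H, ∀ u ∈ U, ρ h u ∈ U := fun h u hu => by
    rw [LinearMap.mem_ker, ← Module.End.mul_apply, ← hTh, Module.End.mul_apply, LinearMap.mem_ker.mp hu,
      map_zero]
  let ρU : H →* Module.End K U :=
    { toFun := fun h => (ρ h).restrict (hU h)
      map_one' := by ext u; simp
      map_mul' := fun a b => by ext u; simp [map_mul] }
  let η := ρU.toHomUnits
  let H' := η.range
  let η' : H →* H' := η.rangeRestrict
  haveI : Finite H' := Finite.of_surjective _ η.rangeRestrict_surjective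
  let N' : Subgroup H' := N.map η'
  let ρ' : H' →* Module.End K U := (Units.coeHom _).comp H'.subtype
  have hval : ∀ h, ρ' (η' h) = ρU h := fun h => rfl
  -- trivial action on `U`
  have key : ∀ e ∈ N, ρU e = 1 := by
    by_contra hne
    push Not at hne
    obtain ⟨e, he, hee⟩ := hne
    haveI : Group.IsNilpotent N' := Group.nilpotent_of_surjective (η'.subgroupMap N) (η'.subgroupMap_surjective N)
    haveI : Nontrivial N' := ⟨⟨⟨η' e, mem_map_of_mem η' he⟩, 1, fun h => hee (by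
      rw [← hval, show η' e = 1 from congrArg Subtype.val h, map_one])⟩⟩
    haveI : Nontrivial (center N') :=
      (Subgroup.nontrivial_iff_ne_bot _).mpr (Group.IsNilpotent.center_ne_bot _)
    obtain ⟨⟨⟨z, hz⟩, hzc⟩, hz1⟩ := exists_ne (1 : center N')
    refine hz1 ?_
    have hzc' : ∀ a ∈ N', Commute z a := fun a ha =>
      congrArg Subtype.val ((mem_center_iff.mp hzc ⟨a, ha⟩).symm)
    have hfpf' : ∀ a ∈ N', η' x * a * (η' x)⁻¹ = a → a = 1 := by
      rintro _ ⟨a, ha, rfl⟩ hfix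
      -- lift the fixed point
      set M : Subgroup H := N ⊓ η'.ker with hM
      let g : M → M := fun m => ⟨(m : H)⁻¹ * (x * m * x⁻¹), by
        refine ⟨N.mul_mem (N.inv_mem m.2.1) ((inferInstance : N.Normal).conj_mem _ m.2.1 x), ?_⟩
        have hm : η' m = 1 := MonoidHom.mem_ker.mp m.2.2
        show η' _ = 1
        simp [hm]⟩
      have hg : Function.Injective g := fun m m' h => by
        have h1 : (m : H)⁻¹ * (x * m * x⁻¹) = (m' : H)⁻¹ * (x * m' * x⁻¹) := congrArg Subtype.val h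
        refine Subtype.ext (mul_inv_eq_one.mp (hfpf _ (N.mul_mem m'.2.1 (N.inv_mem m.2.1)) ?_)).symm
        calc x * ((m' : H) * (m : H)⁻¹) * x⁻¹
            = (m' : H) * ((m' : H)⁻¹ * (x * m' * x⁻¹)) * ((m : H)⁻¹ * (x * m * x⁻¹))⁻¹ * (m : H)⁻¹ := by group
          _ = _ := by rw [h1]; group
      have hmem : a⁻¹ * (x * a * x⁻¹) ∈ M := by
        refine ⟨N.mul_mem (N.inv_mem ha) ((inferInstance : N.Normal).conj_mem _ ha x), ?_⟩
        show η' _ = 1
        rw [map_mul, map_mul, map_mul, map_inv, map_inv, hfix, inv_mul_cancel]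
      obtain ⟨m, hm⟩ := Finite.surjective_of_injective hg ⟨_, hmem⟩
      have h1 : (m : H)⁻¹ * (x * m * x⁻¹) = a⁻¹ * (x * a * x⁻¹) := congrArg Subtype.val hm
      have h2 := hfpf _ (N.mul_mem ha (N.inv_mem m.2.1)) (calc x * (a * (m : H)⁻¹) * x⁻¹
            = a * (a⁻¹ * (x * a * x⁻¹)) * ((m : H)⁻¹ * (x * m * x⁻¹))⁻¹ * (m : H)⁻¹ := by group
          _ = _ := by rw [h1]; group)
      rw [mul_inv_eq_one.mp h2]
      exact MonoidHom.mem_ker.mp m.2.2
    have h1 := eq_one_of_center ρ' N' (η' x) hr (by rw [← map_pow, hxr, map_one]) ?_ hr0 ?_ hfpf' ?_ ?_ hz hzc'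
    · exact Subtype.ext (Subtype.ext (Subtype.ext (Units.ext h1)))
    · rintro _ ⟨a, ha, rfl⟩
      exact ⟨x * a * x⁻¹, (inferInstance : N.Normal).conj_mem a ha x, by simp⟩
    · intro h
      obtain ⟨k, hk⟩ := card_map_dvd N η'
      exact hN0 (by rw [hk, Nat.cast_mul, h, zero_mul])
    · let i : (LinearMap.ker (ρ' (η' x) - 1) : Submodule K U) →ₗ[K] (LinearMap.ker (ρ x - 1) : Submodule K W) :=
        (U.subtype.comp (Submodule.subtype _)).codRestrict _ fun u => by
          have h3 := LinearMap.mem_ker.mp u.2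
          rw [LinearMap.sub_apply, sub_eq_zero] at h3
          rw [LinearMap.mem_ker, LinearMap.sub_apply, sub_eq_zero]
          exact congrArg Subtype.val h3
      refine le_trans (LinearMap.finrank_le_finrank_of_injective (f := i) ?_) hline
      intro u v h
      have h4 : ((i u : (LinearMap.ker (ρ x - 1) : Submodule K W)) : W) = (i v : (LinearMap.ker (ρ x - 1) : Submodule K W)) := by rw [h]
      exact Subtype.ext (Subtype.ext h4)
    · intro u hu
      have h3 : T (u : W) = (Fintype.card D : K) • (u : W) := by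
        rw [hT, LinearMap.sum_apply, Finset.sum_congr rfl fun e _ => ?_, Finset.sum_const, Finset.card_univ,
          ← Nat.cast_smul_eq_nsmul K]
        have h4 := hu (η' e) (by
          rw [← map_commutator]
          exact mem_map_of_mem η' e.2)
        exact congrArg Subtype.val h4
      rw [LinearMap.mem_ker.mp u.2] at h3
      exact Subtype.ext ((smul_eq_zero.mp h3.symm).resolve_left hD0)
  refine LinearMap.ext fun w => ?_
  -- split off the fixed part
  set y : W := T w - (Fintype.card D : K) • w with hy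
  have hTy : y ∈ U := by
    have h1 : T * T = (Fintype.card D : K) • T := by
      conv_lhs => arg 2; rw [hT]
      rw [Finset.mul_sum, Finset.sum_congr rfl fun (e : D) _ => hTd (e : H) e.2, Finset.sum_const, Finset.card_univ,
        ← Nat.cast_smul_eq_nsmul K]
    rw [LinearMap.mem_ker, hy, map_sub, map_smul, ← Module.End.mul_apply, h1, LinearMap.smul_apply, sub_self]
  have hdy : ρ d y = y := congrArg Subtype.val (LinearMap.congr_fun (key d (commutator_le_self N hd)) ⟨y, hTy⟩)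
  have hdT : ρ d (T w) = T w := by rw [← Module.End.mul_apply, hTh, hTd d hd]
  rw [hy, map_sub, hdT, map_smul, sub_right_inj] at hdy
  exact smul_right_injective W hD0 hdy

end Frobenius

end Cfsg.Agent.CoprimeFixed
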